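import Groth.Prelude.Def_PLie
import Mathlib

/-!
# Jacobson's formula in an associative algebra of characteristic `p`
-/

set_option autoImplicit false
noncomputable section

universe u v w

open Finset Polynomial

attribute [local instance 100] LieRing.ofAssociativeRing

namespace Groth.Agent.RLie

theorem bracketWord_map {L L' : Type*} [LieRing L] [LieRing L'] {ι : Type*} (g : L → L')
    (hg : ∀ x y, g ⁅x, y⁆ = ⁅g x, g y⁆) (x : ι → L) (x₁ : L) (w : List ι) :
    g (PLie.bracketWord x x₁ w) = PLie.bracketWord (g ∘ x) (g x₁) w := by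
  induction w with
  | nil => rfl
  | cons i w ih => rw [PLie.bracketWord_cons, hg, ih]; rfl

theorem pair_comp {L L' : Type*} (g : L → L') (a b : L) : g ∘ PLie.pair a b = PLie.pair (g a) (g b) :=
  funext fun i => by cases i <;> rfl

/-- The coefficient of a word in Jacobson's sum. -/
def coef (R : Type u) [CommRing R] (p : ℕ) [CharP R p] (t : Fin (p - 1) → Bool) : R :=
  (ZMod.castHom (dvd_refl p) R) ((Fintype.card {i // t i = false} : ZMod p)⁻¹)

theorem jacobson_eq (R : Type u) [CommRing R] (p : ℕ) [CharP R p] {L : Type v} [LieRing L] [LieAlgebra R L]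
    (a b : L) : PLie.jacobson R p a b =
      ∑ t : Fin (p - 1) → Bool, coef R p t • PLie.bracketWord (PLie.pair a b) b (List.ofFn t) := rfl

/-- The number of `true` values. -/
def nT {n : ℕ} (t : Fin n → Bool) : ℕ := (univ.filter fun i => t i = true).card

theorem nT_cons {n : ℕ} (c : Bool) (t : Fin n → Bool) :
    nT (Fin.cons c t) = (if c = true then 1 else 0) + nT t := by
  simp only [nT, card_filter, Fin.sum_univ_succ, Fin.cons_zero, Fin.cons_succ]

variable {R : Type u} [CommRing R] (p : ℕ) [Fact p.Prime] [CharP R p]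
variable {A : Type v} [Ring A] [Algebra R A]

theorem lie_CX (a b z : A) (n : ℕ) :
    ⁅C a + C b * X, C z * X ^ n⁆ = C ⁅a, z⁆ * X ^ n + C ⁅b, z⁆ * X ^ (n + 1) := by
  simp only [C_mul_X_pow_eq_monomial, C_mul_X_eq_monomial]
  simp only [Ring.lie_def, map_sub, sub_mul, add_mul, mul_add, ← monomial_zero_left, monomial_mul_monomial,
    zero_add, add_zero, add_comm 1 n]
  abel

theorem iterate_bracket (a b : A) (n : ℕ) :
    (fun v : A[X] => ⁅C a + C b * X, v⁆)^[n] (C b) =
      ∑ t : Fin n → Bool, C (PLie.bracketWord (PLie.pair a b) b (List.ofFn t)) * X ^ nT t := by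
  induction n with
  | zero => simp [nT]
  | succ n ih =>
    rw [Function.iterate_succ_apply', ih, lie_sum, ← (Fin.consEquiv fun _ => Bool).sum_comp, Fintype.sum_prod_type,
      Fintype.sum_bool, ← sum_add_distrib]
    refine sum_congr rfl fun t _ => ?_
    have e : ∀ c, (Fin.consEquiv fun _ => Bool) (c, t) = Fin.cons c t := fun c => rfl
    rw [lie_CX, e, e, nT_cons, nT_cons, List.ofFn_succ, List.ofFn_succ]
    simp [PLie.pair]
    rw [add_comm 1 (nT t)]
    abel

include R in
/-- `(ad u) ^ (p - 1)` is the sum of `u ^ i * v * u ^ (p - 1 - i)`. -/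
theorem iterate_bracket_eq_geom (u v : A) :
    (fun v : A => ⁅u, v⁆)^[p - 1] v = ∑ i ∈ range p, u ^ i * v * u ^ (p - 1 - i) := by
  classical
  set Lm : Module.End R A := LinearMap.mulLeft R u
  set Rm : Module.End R A := LinearMap.mulRight R u
  have hc : Commute Lm Rm := LinearMap.ext fun x => by simp [Lm, Rm, mul_assoc]
  haveI : Fact (0 < p) := ⟨(Fact.out : p.Prime).pos⟩
  have key : (X - C (X : R[X])) ^ (p - 1) = ∑ i ∈ range p, X ^ i * C (X : R[X]) ^ (p - 1 - i) := by
    have hreg := (monic_X_sub_C (X : R[X])).isRegular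
    refine hreg.right ?_
    show _ * _ = _ * _
    rw [geom_sum₂_mul, ← pow_succ, Nat.sub_add_cancel (Fact.out : p.Prime).one_le, sub_pow_char]
  let φ : R[X] →+* Module.End R A := (aeval Rm).toRingHom
  have hcφ : ∀ q, Commute (φ q) Lm := fun q => by
    induction q using Polynomial.induction_on' with
    | add a b ha hb => rw [map_add]; exact ha.add_left hb
    | monomial n a =>
      show Commute (aeval Rm (monomial n a)) Lm
      rw [aeval_monomial]
      exact (Algebra.commute_algebraMap_left a Lm).mul_left (hc.symm.pow_left n)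
  have h := congrArg (eval₂RingHom' φ Lm hcφ) key
  simp only [map_pow, map_sub, map_sum, map_mul] at h
  simp only [eval₂RingHom', RingHom.coe_mk, MonoidHom.coe_mk, OneHom.coe_mk, eval₂_X, eval₂_C, φ,
    AlgHom.toRingHom_eq_coe, RingHom.coe_coe, aeval_X] at h
  have h2 := LinearMap.congr_fun h v
  rw [LinearMap.sum_apply, Module.End.coe_pow] at h2
  have h3 : ⇑(Lm - Rm) = fun v : A => ⁅u, v⁆ := funext fun x => by simp [Lm, Rm, Ring.lie_def]
  rw [h3] at h2
  rw [h2]
  refine sum_congr rfl fun i _ => ?_
  rw [Module.End.mul_apply, LinearMap.pow_mulLeft, LinearMap.pow_mulRight, LinearMap.mulLeft_apply,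
    LinearMap.mulRight_apply, mul_assoc]

theorem derivative_pow_sum (u : A[X]) (n : ℕ) :
    derivative (u ^ n) = ∑ i ∈ range n, u ^ i * derivative u * u ^ (n - 1 - i) := by
  induction n with
  | zero => simp
  | succ n ih =>
    rw [pow_succ, derivative_mul, ih, sum_range_succ, sum_mul]
    simp only [Nat.add_sub_cancel, Nat.sub_self, pow_zero, mul_one]
    congr 1
    refine sum_congr rfl fun i hi => ?_
    rw [mem_range] at hi
    rw [mul_assoc, ← pow_succ, show n - 1 - i + 1 = n - i by omega]

/-- Jacobson's formula. -/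
theorem add_pow_eq (a b : A) : (a + b) ^ p = a ^ p + b ^ p - PLie.jacobson R p a b := by
  classical
  have hp := (Fact.out : p.Prime)
  set u : A[X] := C a + C b * X
  have hdeg : u.natDegree ≤ 1 :=
    (natDegree_add_le _ _).trans (by simp [natDegree_C_mul_X_pow_le b 1, (natDegree_C_mul_le b X).trans natDegree_X_le])
  have hder : derivative u = C b := by simp [u]
  have key : derivative (u ^ p) =
      ∑ t : Fin (p - 1) → Bool, C (PLie.bracketWord (PLie.pair a b) b (List.ofFn t)) * X ^ nT t := by
    rw [derivative_pow_sum, ← iterate_bracket, hder]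
    exact (iterate_bracket_eq_geom (R := R) p u (C b)).symm
  have hcoeff : ∀ m ∈ range (p - 1), (u ^ p).coeff (m + 1) =
      -∑ t ∈ univ.filter (fun t : Fin (p - 1) → Bool => nT t = m),
        coef R p t • PLie.bracketWord (PLie.pair a b) b (List.ofFn t) := by
    intro m hm
    rw [mem_range] at hm
    have h := congrArg (fun q : A[X] => q.coeff m) key
    simp only [coeff_derivative, finsetSum_coeff, coeff_C_mul_X_pow, ← sum_filter] at h
    set c : ZMod p := ((m + 1 : ℕ) : ZMod p)
    have hc : c ≠ 0 := by
      rw [Ne, ZMod.natCast_eq_zero_iff]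
      exact fun hd => absurd (Nat.le_of_dvd (by omega) hd) (by omega)
    have hcR : ((m : A) + 1) = algebraMap R A ((ZMod.castHom (dvd_refl p) R) c) := by
      simp [c]
    rw [hcR, ← Algebra.commutes, ← Algebra.smul_def] at h
    have hinv : (ZMod.castHom (dvd_refl p) R) c⁻¹ * (ZMod.castHom (dvd_refl p) R) c = 1 := by
      rw [← map_mul, inv_mul_cancel₀ hc, map_one]
    calc (u ^ p).coeff (m + 1)
        = (ZMod.castHom (dvd_refl p) R) c⁻¹ • (ZMod.castHom (dvd_refl p) R) c • (u ^ p).coeff (m + 1) := by
          rw [smul_smul, hinv, one_smul]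
      _ = _ := by
        rw [h, smul_sum, ← sum_neg_distrib]
        refine sum_congr (filter_congr fun t _ => eq_comm) fun t ht => ?_
        rw [mem_filter] at ht
        rw [← neg_smul]
        congr 1
        rw [coef, ← map_neg, ← inv_neg]
        congr 2
        have hs : Fintype.card {i // t i = false} + nT t = p - 1 := by
          rw [nT, Fintype.card_subtype, ← card_union_of_disjoint (disjoint_filter.2 fun i _ h1 h2 => by simp [h1] at h2)]
          rw [show (univ.filter fun i => t i = false) ∪ (univ.filter fun i => t i = true) = univ by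
            ext i; cases h : t i <;> simp [h]]
          simp
        have h3 : (((Fintype.card {i // t i = false} + (m + 1) : ℕ)) : ZMod p) = 0 := by
          rw [ZMod.natCast_eq_zero_iff, show Fintype.card {i // t i = false} + (m + 1) = p by omega]
        rw [Nat.cast_add] at h3
        exact eq_neg_of_add_eq_zero_right h3
  have he : eval₂RingHom' (RingHom.id A) 1 (fun x => Commute.one_right _) (u ^ p) = (a + b) ^ p := by
    rw [map_pow]; simp [u, eval₂RingHom']
  have hnd : (u ^ p).natDegree ≤ p := natDegree_pow_le.trans (by nlinarith)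
  rw [← he]
  show eval₂ (RingHom.id A) 1 (u ^ p) = _
  rw [eval₂_eq_sum_range' _ (show (u ^ p).natDegree < (p - 1) + 1 + 1 by omega) 1]
  simp only [RingHom.id_apply, one_pow, mul_one]
  rw [sum_range_succ, sum_range_succ', sum_congr rfl hcoeff, sum_neg_distrib, Nat.sub_add_cancel hp.one_le,
    show (u ^ p).coeff 0 = a ^ p by
      rw [← constantCoeff_apply, map_pow]; simp [u],
    show (u ^ p).coeff p = b ^ p by
      have := coeff_pow_of_natDegree_le (p := u) (n := 1) hdeg (m := p)
      rw [mul_one] at this
      rw [this]; simp [u]]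
  rw [jacobson_eq, ← sum_fiberwise_of_maps_to (g := nT) (t := range (p - 1 + 1)) (fun t _ => by
    rw [mem_range, nT]; have := card_le_univ (univ.filter fun i => t i = true); simp at this; omega),
    sum_range_succ]
  have hlast : ∑ t ∈ univ.filter (fun t : Fin (p - 1) → Bool => nT t = p - 1),
      coef R p t • PLie.bracketWord (PLie.pair a b) b (List.ofFn t) = 0 := by
    refine sum_eq_zero fun t ht => ?_
    rw [mem_filter, nT] at ht
    have hall : univ.filter (fun i => t i = true) = univ := eq_univ_of_card _ (by simpa using ht.2)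
    haveI : IsEmpty {i // t i = false} := ⟨fun ⟨i, hi⟩ => by
      have := hall.symm ▸ mem_univ i; simp [hi] at this⟩
    rw [coef, Fintype.card_eq_zero, Nat.cast_zero, inv_zero, map_zero, zero_smul]
  rw [hlast, add_zero]
  abel

end Groth.Agent.RLie
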