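import Groth.Agent.RLie.PMap
import Groth.Agent.PBW.Basic

/-!
# The restricted enveloping algebra and its basis of monomials with exponents `< p`

`Env k p L φ` is the enveloping algebra modulo the central elements `x ^ p - x^[p]`. Its basis comes
from the PBW basis by a triangularity argument.
-/

set_option autoImplicit false
noncomputable section

universe u v

open Finset

attribute [local instance 100] LieRing.ofAssociativeRing

namespace Groth.Agent.RLie.EnvAlg

variable {k : Type u} [Field k] {p : ℕ} [Fact p.Prime] [CharP k p]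
variable {L : Type v} [LieRing L] [LieAlgebra k L]

/-- Local abbreviation for the map into the enveloping algebra. -/
abbrev ιU : L →ₗ⁅k⁆ UniversalEnvelopingAlgebra k L := UniversalEnvelopingAlgebra.ι k

theorem U_induction {P : UniversalEnvelopingAlgebra k L → Prop}
    (halg : ∀ c, P (algebraMap k _ c)) (hι : ∀ x : L, P (ιU x))
    (hadd : ∀ a c, P a → P c → P (a + c)) (hmul : ∀ a c, P a → P c → P (a * c))
    (w : UniversalEnvelopingAlgebra k L) : P w := by
  obtain ⟨t, rfl⟩ : ∃ t, UniversalEnvelopingAlgebra.mkAlgHom k L t = w := Quotient.exists_rep w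
  induction t using TensorAlgebra.induction with
  | algebraMap r => rw [AlgHom.commutes]; exact halg r
  | ι a => exact hι a
  | add a c ha hc => rw [map_add]; exact hadd _ _ ha hc
  | mul a c ha hc => rw [map_mul]; exact hmul _ _ ha hc

instance nontrivialU : Nontrivial (UniversalEnvelopingAlgebra k L) :=
  (UniversalEnvelopingAlgebra.lift k (0 : L →ₗ⁅k⁆ k)).toRingHom.domain_nontrivial

variable (p) in
/-- The defining elements. -/
def rel (φ : PLie.PMap k p L) (x : L) : UniversalEnvelopingAlgebra k L := ιU x ^ p - ιU (φ x)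

theorem commute_rel (φ : PLie.PMap k p L) (x : L) (w : UniversalEnvelopingAlgebra k L) :
    Commute (rel p φ x) w := by
  haveI : CharP (Module.End k (UniversalEnvelopingAlgebra k L)) p :=
    charP_of_injective_algebraMap (algebraMap k (Module.End k (UniversalEnvelopingAlgebra k L))).injective p
  induction w using U_induction with
  | halg c => exact Algebra.commute_algebraMap_right _ _
  | hadd a c ha hc => exact ha.add_right hc
  | hmul a c ha hc => exact ha.mul_right hc
  | hι y =>
    set Lm : Module.End k (UniversalEnvelopingAlgebra k L) := LinearMap.mulLeft k (ιU x)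
    set Rm : Module.End k (UniversalEnvelopingAlgebra k L) := LinearMap.mulRight k (ιU x)
    have hc : Commute Lm Rm := LinearMap.ext fun z => by simp [Lm, Rm, mul_assoc]
    have key : ∀ n, ((Lm - Rm) ^ n) (ιU y) = ιU ((LieAlgebra.ad k L x ^ n) y) := by
      intro n
      induction n with
      | zero => simp
      | succ n ih =>
        rw [pow_succ', Module.End.mul_apply, ih, pow_succ', Module.End.mul_apply, LieAlgebra.ad_apply,
          LieHom.map_lie, Ring.lie_def]
        simp [Lm, Rm]
    have h := key p
    rw [sub_pow_char_of_commute (p := p) hc, LinearMap.sub_apply, LinearMap.pow_mulLeft,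
      LinearMap.pow_mulRight, LinearMap.mulLeft_apply, LinearMap.mulRight_apply, ← φ.ad_map,
      LieAlgebra.ad_apply, LieHom.map_lie, Ring.lie_def] at h
    show rel p φ x * ιU y = ιU y * rel p φ x
    rw [rel, sub_mul, mul_sub]
    linear_combination (norm := abel) h

theorem rel_add (φ : PLie.PMap k p L) (x y : L) : rel p φ (x + y) = rel p φ x + rel p φ y := by
  haveI : CharP (UniversalEnvelopingAlgebra k L) p :=
    charP_of_injective_algebraMap (algebraMap k (UniversalEnvelopingAlgebra k L)).injective p
  simp only [rel]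
  rw [φ.map_add, map_add, add_pow_eq (R := k) p, map_sub, map_add, map_jacobson p]
  abel

theorem rel_smul (φ : PLie.PMap k p L) (c : k) (x : L) : rel p φ (c • x) = c ^ p • rel p φ x := by
  simp [rel, φ.map_smul, smul_pow, smul_sub]

theorem rel_zero (φ : PLie.PMap k p L) : rel p φ 0 = 0 := by
  simp [rel, pmap_zero, zero_pow (Fact.out : p.Prime).ne_zero]

variable (k p L) in
/-- The ideal generated by the defining elements. -/
def relIdeal (φ : PLie.PMap k p L) : Ideal (UniversalEnvelopingAlgebra k L) :=
  Ideal.span (Set.range (rel p φ))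

instance relIdeal_isTwoSided (φ : PLie.PMap k p L) : (relIdeal k p L φ).IsTwoSided := by
  refine ⟨fun {a} w ha => ?_⟩
  unfold relIdeal at ha ⊢
  induction ha using Submodule.span_induction with
  | mem z hz =>
    obtain ⟨x, rfl⟩ := hz
    rw [(commute_rel φ x w).eq]
    exact Ideal.mul_mem_left _ _ (Submodule.subset_span ⟨x, rfl⟩)
  | zero => simp
  | add _ _ _ _ h1 h2 => rw [add_mul]; exact add_mem h1 h2
  | smul r z _ hz =>
    rw [smul_eq_mul, mul_assoc]
    exact Ideal.mul_mem_left _ _ hz

variable (k p L) in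
/-- The restricted enveloping algebra. -/
def Env (φ : PLie.PMap k p L) : Type (max u v) := UniversalEnvelopingAlgebra k L ⧸ relIdeal k p L φ

instance instRing (φ : PLie.PMap k p L) : Ring (Env k p L φ) :=
  inferInstanceAs (Ring (UniversalEnvelopingAlgebra k L ⧸ relIdeal k p L φ))

instance instAlgebra (φ : PLie.PMap k p L) : Algebra k (Env k p L φ) :=
  inferInstanceAs (Algebra k (UniversalEnvelopingAlgebra k L ⧸ relIdeal k p L φ))

/-- The quotient map. -/
def mk (φ : PLie.PMap k p L) : UniversalEnvelopingAlgebra k L →ₐ[k] Env k p L φ :=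
  Ideal.Quotient.mkₐ k (relIdeal k p L φ)

theorem mk_surjective (φ : PLie.PMap k p L) : Function.Surjective (mk φ) :=
  Ideal.Quotient.mk_surjective

theorem mk_eq_zero_iff (φ : PLie.PMap k p L) (w : UniversalEnvelopingAlgebra k L) :
    mk φ w = 0 ↔ w ∈ relIdeal k p L φ :=
  Ideal.Quotient.eq_zero_iff_mem

/-- The generators. -/
def ιE (φ : PLie.PMap k p L) : L →ₗ⁅k⁆ Env k p L φ := (mk φ).toLieHom.comp ιU

theorem ιE_apply (φ : PLie.PMap k p L) (x : L) : ιE φ x = mk φ (ιU x) := rfl

theorem ιE_pmap (φ : PLie.PMap k p L) (x : L) : ιE φ (φ x) = ιE φ x ^ p := by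
  have h : mk φ (rel p φ x) = 0 := (mk_eq_zero_iff φ _).2 (Ideal.subset_span ⟨x, rfl⟩)
  rw [rel, map_sub, map_pow, sub_eq_zero] at h
  exact h.symm

theorem induction {φ : PLie.PMap k p L} {P : Env k p L φ → Prop}
    (halg : ∀ c, P (algebraMap k _ c)) (hι : ∀ x : L, P (ιE φ x))
    (hadd : ∀ a c, P a → P c → P (a + c)) (hmul : ∀ a c, P a → P c → P (a * c))
    (w : Env k p L φ) : P w := by
  obtain ⟨w, rfl⟩ := mk_surjective φ w
  induction w using U_induction with
  | halg c => rw [AlgHom.commutes]; exact halg c
  | hι x => exact hι x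
  | hadd a c ha hc => rw [map_add]; exact hadd _ _ ha hc
  | hmul a c ha hc => rw [map_mul]; exact hmul _ _ ha hc

theorem algHom_ext {φ : PLie.PMap k p L} {B : Type*} [Semiring B] [Algebra k B]
    {f g : Env k p L φ →ₐ[k] B} (h : ∀ x, f (ιE φ x) = g (ιE φ x)) : f = g := by
  refine AlgHom.ext fun w => ?_
  induction w using induction with
  | halg c => rw [f.commutes, g.commutes]
  | hι x => exact h x
  | hadd a c ha hc => rw [map_add, map_add, ha, hc]
  | hmul a c ha hc => rw [map_mul, map_mul, ha, hc]

section Lift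

variable {B : Type*} [Ring B] [Algebra k B]

/-- The universal property. -/
def lift (φ : PLie.PMap k p L) (f : L →ₗ⁅k⁆ B) (hf : ∀ x, f (φ x) = f x ^ p) : Env k p L φ →ₐ[k] B :=
  Ideal.Quotient.liftₐ (relIdeal k p L φ) (UniversalEnvelopingAlgebra.lift k f) fun a ha => by
    unfold relIdeal at ha
    induction ha using Submodule.span_induction with
    | mem z hz => obtain ⟨x, rfl⟩ := hz; simp [rel, hf]
    | zero => simp
    | add _ _ _ _ h1 h2 => simp [h1, h2]
    | smul r z _ hz => simp [hz]

theorem lift_ι (φ : PLie.PMap k p L) (f : L →ₗ⁅k⁆ B) (hf : ∀ x, f (φ x) = f x ^ p) (x : L) :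
    lift φ f hf (ιE φ x) = f x :=
  UniversalEnvelopingAlgebra.lift_ι_apply k f x

end Lift

section Triangular

variable {d : ℕ} (b : Module.Basis (Fin d) k L)

/-- Exponent vectors. -/
def cnt (s : PBW.Mon (Fin d)) : Fin d → ℕ := fun i => s.1.count i

theorem cnt_ins (i : Fin d) (s : PBW.Mon (Fin d)) : cnt (PBW.ins i s) = cnt s + Pi.single i 1 := by
  classical
  funext j
  have h := (List.perm_orderedInsert (· ≤ ·) i s.1).count_eq j
  simp only [cnt, PBW.ins, Pi.add_apply]
  rw [h, List.count_cons]
  rcases eq_or_ne j i with rfl | hne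
  · simp
  · simp [hne, Ne.symm hne]

theorem cnt_one : cnt (PBW.one (ι := Fin d)) = 0 := by
  funext j; simp [cnt, PBW.one]

theorem cnt_injective : Function.Injective (cnt (d := d)) := by
  intro s t h
  exact Subtype.ext ((List.perm_iff_count.2 fun a => congrFun h a).eq_of_pairwise'
    s.2.pairwise t.2.pairwise)

theorem cnt_surjective : Function.Surjective (cnt (d := d)) := by
  intro c
  induction hn : ∑ i, c i using Nat.strong_induction_on generalizing c with
  | _ n ih =>
    subst hn
    by_cases h : ∀ i, c i = 0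
    · exact ⟨PBW.one, by rw [cnt_one]; funext i; simp [h i]⟩
    · push Not at h
      obtain ⟨i, hi⟩ := h
      have hc : c = Function.update c i (c i - 1) + Pi.single i 1 := by
        funext j
        rcases eq_or_ne j i with rfl | hne
        · simp; omega
        · simp [hne]
      have hlt : ∑ j, Function.update c i (c i - 1) j < ∑ j, c j :=
        Finset.sum_lt_sum (fun j _ => by
            rcases eq_or_ne j i with rfl | hne
            · rw [Function.update_self]; omega
            · rw [Function.update_of_ne hne])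
          ⟨i, Finset.mem_univ _, by rw [Function.update_self]; omega⟩
      obtain ⟨s, hs⟩ := ih _ hlt _ rfl
      exact ⟨PBW.ins i s, by rw [cnt_ins, hs, ← hc]⟩

/-- Sorted lists are exponent vectors. -/
def cntEquiv : PBW.Mon (Fin d) ≃ (Fin d → ℕ) := Equiv.ofBijective cnt ⟨cnt_injective, cnt_surjective⟩

theorem sum_cnt (s : PBW.Mon (Fin d)) : ∑ i, cnt s i = s.1.length := by
  classical
  simpa [cnt] using Multiset.sum_count_eq_card (s := Finset.univ) (m := (s.1 : Multiset (Fin d))) (by simp)

variable (k d) in
/-- Vectors supported in length `< n`. -/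
def degLT (n : ℕ) : Submodule k (PBW.Sym k (Fin d)) :=
  Finsupp.supported k k {s : PBW.Mon (Fin d) | s.1.length < n}

theorem degLT_mono {m n : ℕ} (h : m ≤ n) : degLT k d m ≤ degLT k d n :=
  Finsupp.supported_mono fun s (hs : s.1.length < m) => hs.trans_le h

theorem z_mem_degLT {s : PBW.Mon (Fin d)} {n : ℕ} (h : s.1.length < n) : PBW.z s ∈ degLT k d n :=
  Finsupp.single_mem_supported k (1 : k) h

theorem rho_sub_mem_degLT (i : Fin d) (s : PBW.Mon (Fin d)) :
    PBW.rho b i s - PBW.z (PBW.ins i s) ∈ degLT k d (s.1.length + 1) :=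
  Finsupp.supported_mono (fun q hq => Nat.lt_succ_of_le hq) (PBW.rho_sub_mem b i s)

theorem act_degLT {n : ℕ} (a : L) {v : PBW.Sym k (Fin d)} (hv : v ∈ degLT k d n) :
    PBW.act b a v ∈ degLT k d (n + 1) := by
  rw [degLT, Finsupp.supported_eq_span_single] at hv
  induction hv using Submodule.span_induction with
  | mem z hz =>
    obtain ⟨s, hs, rfl⟩ := hz
    simp only [Set.mem_setOf_eq] at hs
    show PBW.act b a (PBW.z s) ∈ _
    rw [PBW.act_z]
    refine Submodule.sum_mem _ fun i _ => Submodule.smul_mem _ _ ?_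
    have h1 := degLT_mono (by omega : s.1.length + 1 ≤ n + 1) (rho_sub_mem_degLT b i s)
    have h2 : PBW.z (k := k) (PBW.ins i s) ∈ degLT k d (n + 1) :=
      z_mem_degLT (by rw [PBW.length_ins]; omega)
    simpa using Submodule.add_mem _ h1 h2
  | zero => simp
  | add _ _ _ _ h1 h2 => rw [map_add]; exact add_mem h1 h2
  | smul r z _ hz => rw [map_smul]; exact Submodule.smul_mem _ _ hz

/-- `v` has leading term the exponent vector `c`. -/
def Lead (v : PBW.Sym k (Fin d)) (c : Fin d → ℕ) : Prop :=
  v - PBW.z ((cntEquiv (d := d)).symm c) ∈ degLT k d (∑ i, c i)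

theorem length_symm (c : Fin d → ℕ) : ((cntEquiv (d := d)).symm c).1.length = ∑ i, c i := by
  rw [← sum_cnt]
  exact Finset.sum_congr rfl fun i _ => congrFun ((cntEquiv (d := d)).apply_symm_apply c) i

theorem lead_one : Lead (PBW.z (k := k) (PBW.one (ι := Fin d))) 0 := by
  have h : (cntEquiv (d := d)).symm 0 = PBW.one :=
    (cntEquiv (d := d)).injective (by rw [Equiv.apply_symm_apply]; exact cnt_one.symm)
  rw [Lead, h, sub_self]
  exact zero_mem _

theorem lead_mem {v : PBW.Sym k (Fin d)} {c : Fin d → ℕ} (h : Lead v c) :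
    v ∈ degLT k d (∑ i, c i + 1) := by
  have h2 : PBW.z (k := k) ((cntEquiv (d := d)).symm c) ∈ degLT k d (∑ i, c i + 1) :=
    z_mem_degLT (by rw [length_symm]; omega)
  simpa using Submodule.add_mem _ (degLT_mono (Nat.le_succ _) h) h2

theorem lead_act {v : PBW.Sym k (Fin d)} {c : Fin d → ℕ} (h : Lead v c) (i : Fin d) :
    Lead (PBW.act b (b i) v) (c + Pi.single i 1) := by
  have hsum : ∑ j, (c + Pi.single i 1 : Fin d → ℕ) j = ∑ j, c j + 1 := by
    simp [Finset.sum_add_distrib]
  set s := (cntEquiv (d := d)).symm c with hs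
  have hins : (cntEquiv (d := d)).symm (c + Pi.single i 1) = PBW.ins i s :=
    (cntEquiv (d := d)).injective (by
      rw [Equiv.apply_symm_apply]
      show _ = cnt (PBW.ins i s)
      rw [cnt_ins, show cnt s = c from (cntEquiv (d := d)).apply_symm_apply c])
  rw [Lead, hins, hsum]
  have h1 := act_degLT b (b i) h
  have h2 := rho_sub_mem_degLT b i s
  rw [hs, length_symm, ← hs] at h2
  rw [map_sub, ← hs, PBW.act_basis_z] at h1
  convert Submodule.add_mem _ h1 h2 using 1
  abel

theorem lead_pow {v : PBW.Sym k (Fin d)} {c : Fin d → ℕ} (h : Lead v c) (i : Fin d) (n : ℕ) :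
    Lead (PBW.repU b (ιU (b i) ^ n) v) (c + Pi.single i n) := by
  induction n with
  | zero => simpa using h
  | succ n ih =>
    rw [pow_succ', map_mul, Module.End.mul_apply, PBW.repU_ι]
    have : (c + Pi.single i (n + 1) : Fin d → ℕ) = c + Pi.single i n + Pi.single i 1 := by
      rw [add_assoc, ← Pi.single_add]
    rw [this]
    exact lead_act b ih i

variable (φ : PLie.PMap k p L)

theorem lead_rel {v : PBW.Sym k (Fin d)} {c : Fin d → ℕ} (h : Lead v c) (i : Fin d) :
    Lead (PBW.repU b (rel p φ (b i)) v) (c + Pi.single i p) := by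
  have h1 := lead_pow b h i p
  have h2 : PBW.repU b (ιU (φ (b i))) v ∈ degLT k d (∑ j, (c + Pi.single i p : Fin d → ℕ) j) := by
    have hp := (Fact.out : p.Prime).two_le
    refine degLT_mono ?_ (by rw [PBW.repU_ι]; exact act_degLT b _ (lead_mem h))
    simp [Finset.sum_add_distrib]
    omega
  rw [Lead] at h1 ⊢
  rw [rel, map_sub, LinearMap.sub_apply]
  convert Submodule.sub_mem _ h1 h2 using 1
  abel

theorem lead_relPow {v : PBW.Sym k (Fin d)} {c : Fin d → ℕ} (h : Lead v c) (i : Fin d) (n : ℕ) :
    Lead (PBW.repU b (rel p φ (b i) ^ n) v) (c + Pi.single i (p * n)) := by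
  induction n with
  | zero => simpa using h
  | succ n ih =>
    rw [pow_succ', map_mul, Module.End.mul_apply, Nat.mul_succ, Pi.single_add, ← add_assoc]
    exact lead_rel b φ ih i

/-- The ordered monomial. -/
def M (r : Fin d → ℕ) : UniversalEnvelopingAlgebra k L :=
  (List.ofFn fun i => ιU (b i) ^ r i).prod

theorem lead_M (r : Fin d → ℕ) : Lead (PBW.repU b (M b r) (PBW.z PBW.one)) r := by
  have key : ∀ l : List (Fin d), Lead (PBW.repU b (l.map fun i => ιU (b i) ^ r i).prod (PBW.z PBW.one))
      ((l.map fun i => (Pi.single i (r i) : Fin d → ℕ)).sum) := by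
    intro l
    induction l with
    | nil => simpa using lead_one
    | cons i t ih =>
      rw [List.map_cons, List.map_cons, List.prod_cons, List.sum_cons, map_mul, Module.End.mul_apply,
        add_comm]
      exact lead_pow b ih i (r i)
  have := key (List.finRange d)
  rw [← List.ofFn_eq_map, ← List.ofFn_eq_map, List.sum_ofFn, Finset.univ_sum_single] at this
  exact this

/-- The central elements attached to the basis. -/
def Zc (i : Fin d) : Subalgebra.center k (UniversalEnvelopingAlgebra k L) :=
  ⟨rel p φ (b i), Subalgebra.mem_center_iff.2 fun w => (commute_rel φ (b i) w).eq.symm⟩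

/-- The adapted monomial. -/
def E (c : Fin d → ℕ) : UniversalEnvelopingAlgebra k L :=
  ((∏ i, Zc b φ i ^ (c i / p) : Subalgebra.center k (UniversalEnvelopingAlgebra k L)) :
      UniversalEnvelopingAlgebra k L) * M b (fun i => c i % p)

theorem lead_E (c : Fin d → ℕ) : Lead (PBW.repU b (E b φ c) (PBW.z PBW.one)) c := by
  classical
  have key : ∀ (s : Finset (Fin d)) (q : Fin d → ℕ) (v : PBW.Sym k (Fin d)) (c' : Fin d → ℕ),
      Lead v c' → Lead (PBW.repU b ((∏ i ∈ s, Zc b φ i ^ q i :
        Subalgebra.center k (UniversalEnvelopingAlgebra k L)) : UniversalEnvelopingAlgebra k L) v)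
        (c' + ∑ i ∈ s, Pi.single i (p * q i)) := by
    intro s q
    induction s using Finset.induction_on with
    | empty => intro v c' h; simpa using h
    | insert i s hi ih =>
      intro v c' h
      have h' := lead_relPow b φ (ih v c' h) i (q i)
      rw [Finset.prod_insert hi, Finset.sum_insert hi, Subalgebra.coe_mul, map_mul, Module.End.mul_apply,
        add_left_comm, ← add_assoc, add_comm (Pi.single i _) c', add_assoc]
      rw [add_assoc] at h'
      rw [add_comm (∑ x ∈ s, Pi.single x (p * q x)) (Pi.single i (p * q i))] at h'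
      simpa [Zc] using h'
  have h := key Finset.univ (fun i => c i / p) _ _ (lead_M b (fun i => c i % p))
  rw [Finset.univ_sum_single (fun i => p * (c i / p))] at h
  have e : ((fun i => c i % p) + fun i => p * (c i / p) : Fin d → ℕ) = c :=
    funext fun i => Nat.mod_add_div _ _
  rw [e] at h
  rw [E, map_mul, Module.End.mul_apply]
  exact h

/-- A map which is unitriangular for the length filtration is bijective. -/
theorem bijective_of_triangular (T : PBW.Sym k (Fin d) →ₗ[k] PBW.Sym k (Fin d))
    (hT : ∀ s, T (PBW.z s) - PBW.z s ∈ degLT k d s.1.length) : Function.Bijective T := by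
  set N := T - LinearMap.id with hN
  have hlow : ∀ n, ∀ v ∈ degLT k d (n + 1), N v ∈ degLT k d n := by
    intro n v hv
    rw [degLT, Finsupp.supported_eq_span_single] at hv
    induction hv using Submodule.span_induction with
    | mem z hz =>
      obtain ⟨s, hs, rfl⟩ := hz
      exact degLT_mono (Nat.lt_succ_iff.1 hs) (hT s)
    | zero => simp
    | add _ _ _ _ h1 h2 => rw [map_add]; exact add_mem h1 h2
    | smul r z _ hz => rw [map_smul]; exact Submodule.smul_mem _ _ hz
  have h0 : ∀ v ∈ degLT k d 0, v = 0 := by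
    intro v hv
    refine Finsupp.support_eq_empty.1 (Finset.eq_empty_of_forall_notMem fun s hs => ?_)
    exact Nat.not_lt_zero _ ((Finsupp.mem_supported k v).1 hv hs)
  have hex : ∀ v : PBW.Sym k (Fin d), ∃ n, v ∈ degLT k d n := fun v =>
    ⟨v.support.sup (fun s => s.1.length) + 1, (Finsupp.mem_supported k v).2 fun s hs =>
      Nat.lt_succ_of_le (Finset.le_sup (f := fun s : PBW.Mon (Fin d) => s.1.length) hs)⟩
  refine ⟨(injective_iff_map_eq_zero T).2 fun v hv => ?_, fun v => ?_⟩
  · obtain ⟨n, hn⟩ := hex v
    induction n with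
    | zero => exact h0 v hn
    | succ n ih =>
      refine ih ?_
      have : v = -N v := by simp [hN, hv]
      rw [this]
      exact neg_mem (hlow n v hn)
  · obtain ⟨n, hn⟩ := hex v
    induction n generalizing v with
    | zero => exact ⟨0, by rw [h0 v hn, map_zero]⟩
    | succ n ih =>
      obtain ⟨w, hw⟩ := ih (N v) (hlow n v hn)
      refine ⟨v - w, ?_⟩
      rw [map_sub, hw, hN, LinearMap.sub_apply, LinearMap.id_apply]
      abel

/-- The orbit map of the adapted monomials. -/
def T : PBW.Sym k (Fin d) →ₗ[k] PBW.Sym k (Fin d) :=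
  Finsupp.linearCombination k fun s => PBW.repU b (E b φ (cnt s)) (PBW.z PBW.one)

theorem T_bijective : Function.Bijective (T b φ) := bijective_of_triangular _ fun s => by
  have h := lead_E b φ (cnt s)
  rw [Lead, sum_cnt, show (cntEquiv (d := d)).symm (cnt s) = s from Equiv.ofBijective_symm_apply_apply _ _ s] at h
  simpa [T, PBW.z] using h

/-- The adapted basis of the enveloping algebra. -/
def BE : Module.Basis (Fin d → ℕ) k (UniversalEnvelopingAlgebra k L) :=
  ((Finsupp.basisSingleOne (R := k) (ι := PBW.Mon (Fin d))).map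
    ((LinearEquiv.ofBijective (T b φ) (T_bijective b φ)).trans (PBW.pbwBasis b).repr.symm)).reindex cntEquiv

theorem BE_apply (c : Fin d → ℕ) : BE b φ c = E b φ c := by
  have h1 : ∀ v, (PBW.pbwBasis b).repr.symm v = PBW.toU b v := fun v => rfl
  rw [BE, Module.Basis.reindex_apply, Module.Basis.map_apply, Finsupp.coe_basisSingleOne, LinearEquiv.trans_apply,
    h1, LinearEquiv.ofBijective_apply]
  have h2 : PBW.toU b (PBW.z PBW.one) = 1 := by simp [PBW.toU_z, PBW.mon, PBW.one]
  simp only [T, Finsupp.linearCombination_single, one_smul]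
  rw [PBW.toU_repU, h2, mul_one]
  exact congrArg _ ((cntEquiv (d := d)).apply_symm_apply c)

theorem E_add (i : Fin d) (c : Fin d → ℕ) :
    E b φ (c + Pi.single i p) = rel p φ (b i) * E b φ c := by
  classical
  have hp := (Fact.out : p.Prime).pos
  have hmod : (fun j => (c + Pi.single i p : Fin d → ℕ) j % p) = fun j => c j % p := funext fun j => by
    rcases eq_or_ne j i with rfl | hne <;> simp [*]
  have hdiv : (∏ j, Zc b φ j ^ ((c + Pi.single i p : Fin d → ℕ) j / p)) =
      Zc b φ i * ∏ j, Zc b φ j ^ (c j / p) := by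
    rw [← Finset.mul_prod_erase _ _ (Finset.mem_univ i), ← Finset.mul_prod_erase _ _ (Finset.mem_univ i),
      ← mul_assoc, ← pow_succ']
    congr 1
    · simp [Nat.add_div_right _ hp]
    · exact Finset.prod_congr rfl fun j hj => by rw [Pi.add_apply, Pi.single_eq_of_ne (Finset.ne_of_mem_erase hj), add_zero]
  rw [E, E, hmod, hdiv, Subalgebra.coe_mul, mul_assoc]
  rfl

theorem E_mem {c : Fin d → ℕ} (h : ¬ ∀ i, c i < p) : E b φ c ∈ relIdeal k p L φ := by
  push Not at h
  obtain ⟨i, hi⟩ := h
  have e : c = Function.update c i (c i - p) + Pi.single i p := funext fun j => by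
    rcases eq_or_ne j i with rfl | hne <;> simp [*]
  rw [e, E_add, (commute_rel φ (b i) _).eq]
  exact Ideal.mul_mem_left _ _ (Ideal.subset_span ⟨_, rfl⟩)

/-- Coordinates on exponent vectors `< p`. -/
def low : UniversalEnvelopingAlgebra k L →ₗ[k] ((Fin d → Fin p) → k) :=
  (BE b φ).constr k fun c =>
    if h : ∀ i, c i < p then Pi.single (fun i => (⟨c i, h i⟩ : Fin p)) 1 else 0

theorem low_E (c : Fin d → ℕ) : low b φ (E b φ c) =
    if h : ∀ i, c i < p then Pi.single (fun i => (⟨c i, h i⟩ : Fin p)) 1 else 0 := by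
  rw [← BE_apply, low, Module.Basis.constr_basis]

theorem low_eq_zero {w : UniversalEnvelopingAlgebra k L} (hw : w ∈ relIdeal k p L φ) : low b φ w = 0 := by
  have key : ∀ (i : Fin d) (v : UniversalEnvelopingAlgebra k L), low b φ (rel p φ (b i) * v) = 0 := by
    intro i v
    induction (BE b φ).mem_span v using Submodule.span_induction with
    | mem z hz =>
      obtain ⟨c, rfl⟩ := hz
      rw [BE_apply, ← E_add, low_E, dif_neg]
      intro h
      have := h i
      simp at this
    | zero => simp
    | add _ _ _ _ h1 h2 => rw [mul_add, map_add, h1, h2, add_zero]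
    | smul r z _ hz => rw [mul_smul_comm, map_smul, hz, smul_zero]
  have key' : ∀ (x : L) (v : UniversalEnvelopingAlgebra k L), low b φ (rel p φ x * v) = 0 := by
    intro x v
    induction b.mem_span x using Submodule.span_induction with
    | mem z hz => obtain ⟨i, rfl⟩ := hz; exact key i v
    | zero => rw [rel_zero, zero_mul, map_zero]
    | add _ _ _ _ h1 h2 => rw [rel_add, add_mul, map_add, h1, h2, add_zero]
    | smul r z _ hz => rw [rel_smul, smul_mul_assoc, map_smul, hz, smul_zero]
  suffices ∀ r : UniversalEnvelopingAlgebra k L, low b φ (r * w) = 0 by simpa using this 1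
  unfold relIdeal at hw
  induction hw using Submodule.span_induction with
  | mem z hz => obtain ⟨x, rfl⟩ := hz; intro r; rw [← (commute_rel φ x r).eq]; exact key' x r
  | zero => simp
  | add _ _ _ _ h1 h2 => intro r; rw [mul_add, map_add, h1, h2, add_zero]
  | smul s z _ hz => intro r; rw [smul_eq_mul, ← mul_assoc]; exact hz (r * s)

theorem E_of_lt {c : Fin d → ℕ} (h : ∀ i, c i < p) : E b φ c = M b c := by
  have h1 : ∀ i, c i / p = 0 := fun i => Nat.div_eq_of_lt (h i)
  have h2 : (fun i => c i % p) = c := funext fun i => Nat.mod_eq_of_lt (h i)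
  simp [E, h1, h2]

theorem linearIndependent_M :
    LinearIndependent k fun m : Fin d → Fin p => mk φ (M b fun i => (m i : ℕ)) := by
  rw [Fintype.linearIndependent_iff]
  intro g hg m
  have hmem : ∑ m : Fin d → Fin p, g m • M b (fun i => (m i : ℕ)) ∈ relIdeal k p L φ := by
    rw [← mk_eq_zero_iff]
    simpa [map_sum] using hg
  have h := congrFun (low_eq_zero b φ hmem) m
  have hlow : ∀ m' : Fin d → Fin p, low b φ (M b fun i => (m' i : ℕ)) = Pi.single m' 1 := fun m' => by
    rw [← E_of_lt b φ (c := fun i => (m' i : ℕ)) fun i => (m' i).isLt, low_E, dif_pos fun i => (m' i).isLt]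
  simpa [map_sum, hlow, Finset.sum_apply, Pi.single_apply] using h

theorem span_M :
    ⊤ ≤ Submodule.span k (Set.range fun m : Fin d → Fin p => mk φ (M b fun i => (m i : ℕ))) := by
  rintro w -
  obtain ⟨w, rfl⟩ := mk_surjective φ w
  induction (BE b φ).mem_span w using Submodule.span_induction with
  | mem z hz =>
    obtain ⟨c, rfl⟩ := hz
    rw [BE_apply]
    by_cases h : ∀ i, c i < p
    · rw [E_of_lt b φ h]
      exact Submodule.subset_span ⟨fun i => ⟨c i, h i⟩, rfl⟩
    · rw [(mk_eq_zero_iff φ _).2 (E_mem b φ h)]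
      exact zero_mem _
  | zero => simp
  | add _ _ _ _ h1 h2 => rw [map_add]; exact add_mem h1 h2
  | smul r z _ hz => rw [map_smul]; exact Submodule.smul_mem _ _ hz

/-- The basis of the restricted enveloping algebra. -/
def basis : Module.Basis (Fin d → Fin p) k (Env k p L φ) :=
  Module.Basis.mk (linearIndependent_M b φ) (span_M b φ)

theorem basis_apply (m : Fin d → Fin p) : basis b φ m = mk φ (M b fun i => (m i : ℕ)) :=
  Module.Basis.mk_apply _ _ _

theorem M_single (i : Fin d) : M b (Pi.single i 1) = ιU (b i) := by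
  have key : ∀ l : List (Fin d), l.Nodup → (l.map fun j => ιU (k := k) (b j) ^ (Pi.single i 1 : Fin d → ℕ) j).prod =
      if i ∈ l then ιU (b i) else 1 := by
    intro l
    induction l with
    | nil => simp
    | cons j t ih =>
      intro hnd
      rw [List.nodup_cons] at hnd
      rw [List.map_cons, List.prod_cons, ih hnd.2]
      rcases eq_or_ne j i with rfl | hne
      · simp [hnd.1]
      · simp [hne, Ne.symm hne]
  rw [M, List.ofFn_eq_map, key _ (List.nodup_finRange d), if_pos (List.mem_finRange i)]

theorem ιE_injective [Module.Finite k L] : Function.Injective (ιE φ) := by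
  classical
  let b := Module.finBasis k L
  refine (injective_iff_map_eq_zero _).2 fun x hx => ?_
  let e : Fin (Module.finrank k L) → Fin (Module.finrank k L) → Fin p := fun i =>
    Pi.single i ⟨1, (Fact.out : p.Prime).one_lt⟩
  have he : ∀ i, ιE φ (b i) = basis b φ (e i) := fun i => by
    rw [basis_apply, ιE_apply, ← M_single b i]
    congr 2
    funext j
    rcases eq_or_ne j i with rfl | hne <;> simp [e, *]
  have hinj : Function.Injective e := fun i j h => by
    by_contra hne
    have := congrFun h i
    simp [e, Ne.symm hne, Pi.single_eq_of_ne hne, Fin.ext_iff] at this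
  have h := (Fintype.linearIndependent_iff.1 ((basis b φ).linearIndependent.comp e hinj))
    (fun i => b.repr x i) (by
      simp only [Function.comp_apply, ← he, ← map_smul, ← map_sum, Module.Basis.sum_repr, hx])
  exact b.repr.injective (by ext i; simpa using h i)

end Triangular

end Groth.Agent.RLie.EnvAlg
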