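import Groth.Agent.RLie.EnvBasis
import Groth.Prelude.Def_CartDual

/-!
# The restricted enveloping algebra as a cocommutative Hopf algebra; primitives; the dual height one group
-/

set_option autoImplicit false
noncomputable section

universe u v

open Finset TensorProduct

attribute [local instance 100] LieRing.ofAssociativeRing

namespace Groth.Agent.RLie.EnvAlg

variable {k : Type u} [Field k] {p : ℕ} [Fact p.Prime] [CharP k p]
variable {L : Type v} [LieRing L] [LieAlgebra k L] (φ : PLie.PMap k p L)

local notation "E'" => Env k p L φ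

theorem natCast_p {B : Type*} [Semiring B] [Algebra k B] : (p : B) = 0 := by
  rw [← map_natCast (algebraMap k B), CharP.cast_eq_zero, map_zero]

/-- Two commuting summands add their `p`-th powers. -/
theorem add_pow_of_commute {B : Type*} [Semiring B] [Algebra k B] {x y : B} (h : Commute x y) :
    (x + y) ^ p = x ^ p + y ^ p := by
  obtain ⟨r, hr⟩ := h.exists_add_pow_prime_eq (Fact.out : p.Prime)
  rw [hr, natCast_p (k := k)]
  simp

/-- The primitive embedding into the tensor square. -/
def prim : L →ₗ⁅k⁆ E' ⊗[k] E' where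
  toLinearMap := ((TensorProduct.mk k E' E').flip 1 + TensorProduct.mk k E' E' 1) ∘ₗ (ιE φ).toLinearMap
  map_lie' {x y} := by
    show ιE φ ⁅x, y⁆ ⊗ₜ[k] (1 : E') + (1 : E') ⊗ₜ[k] ιE φ ⁅x, y⁆ =
      ⁅ιE φ x ⊗ₜ[k] (1 : E') + (1 : E') ⊗ₜ[k] ιE φ x, ιE φ y ⊗ₜ[k] (1 : E') + (1 : E') ⊗ₜ[k] ιE φ y⁆
    simp only [LieHom.map_lie, Ring.lie_def, sub_tmul, tmul_sub, add_mul, mul_add,
      Algebra.TensorProduct.tmul_mul_tmul, one_mul, mul_one]
    abel

theorem prim_apply (x : L) : prim φ x = ιE φ x ⊗ₜ[k] (1 : E') + (1 : E') ⊗ₜ[k] ιE φ x := rfl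

theorem prim_pmap (x : L) : prim φ (φ x) = prim φ x ^ p := by
  rw [prim_apply, prim_apply, add_pow_of_commute (k := k) (show Commute (ιE φ x ⊗ₜ[k] (1 : E')) ((1 : E') ⊗ₜ[k] ιE φ x) by
    rw [Commute, SemiconjBy, Algebra.TensorProduct.tmul_mul_tmul, Algebra.TensorProduct.tmul_mul_tmul]; simp),
    Algebra.TensorProduct.tmul_pow, Algebra.TensorProduct.tmul_pow, one_pow, ιE_pmap]

/-- The comultiplication. -/
def comulHom : E' →ₐ[k] E' ⊗[k] E' := lift φ (prim φ) (prim_pmap φ)

/-- The counit. -/
def counitHom : E' →ₐ[k] k :=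
  lift φ (0 : L →ₗ⁅k⁆ k) fun x => by simp [zero_pow (Fact.out : p.Prime).ne_zero]

theorem comulHom_ι (x : L) : comulHom φ (ιE φ x) = ιE φ x ⊗ₜ[k] (1 : E') + (1 : E') ⊗ₜ[k] ιE φ x :=
  lift_ι φ _ _ x

theorem counitHom_ι (x : L) : counitHom φ (ιE φ x) = 0 := lift_ι φ _ _ x

instance instBialgebra : Bialgebra k E' :=
  Bialgebra.ofAlgHom (comulHom φ) (counitHom φ)
    (algHom_ext fun x => by
      simp [comulHom_ι, add_tmul, tmul_add, map_add, ← Algebra.TensorProduct.one_def, Algebra.TensorProduct.one_def]
      abel)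
    (algHom_ext fun x => by simp [comulHom_ι, counitHom_ι, map_add])
    (algHom_ext fun x => by simp [comulHom_ι, counitHom_ι, map_add])

theorem comul_eq (w : E') : CoalgebraStruct.comul (R := k) w = comulHom φ w := rfl

theorem counit_eq (w : E') : CoalgebraStruct.counit (R := k) w = counitHom φ w := rfl

theorem comul_ι (x : L) :
    CoalgebraStruct.comul (R := k) (ιE φ x) = ιE φ x ⊗ₜ[k] (1 : E') + (1 : E') ⊗ₜ[k] ιE φ x :=
  comulHom_ι φ x

instance instIsCocomm : Coalgebra.IsCocomm k E' where
  comm_comp_comul := by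
    have h : ((Algebra.TensorProduct.comm k E' E').toAlgHom).comp (comulHom φ) = comulHom φ :=
      algHom_ext fun x => by simp [comulHom_ι, map_add, add_comm]
    exact LinearMap.ext fun w => DFunLike.congr_fun h w

/-- The anti-embedding. -/
def negOp : L →ₗ⁅k⁆ E'ᵐᵒᵖ where
  toLinearMap := -((MulOpposite.opLinearEquiv k : E' ≃ₗ[k] E'ᵐᵒᵖ).toLinearMap ∘ₗ (ιE φ).toLinearMap)
  map_lie' {x y} := by
    show -MulOpposite.op (ιE φ ⁅x, y⁆) = ⁅-MulOpposite.op (ιE φ x), -MulOpposite.op (ιE φ y)⁆
    simp only [LieHom.map_lie, Ring.lie_def, MulOpposite.op_sub, MulOpposite.op_mul, neg_mul_neg]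
    abel

theorem negOp_apply (x : L) : negOp φ x = -MulOpposite.op (ιE φ x) := rfl

theorem negOp_pmap (x : L) : negOp φ (φ x) = negOp φ x ^ p := by
  rw [negOp_apply, negOp_apply, ιE_pmap, MulOpposite.op_pow]
  rcases (Fact.out : p.Prime).eq_two_or_odd' with h | h
  · have h2 : ((2 : ℕ) : E'ᵐᵒᵖ) = 0 := (congrArg (Nat.cast : ℕ → E'ᵐᵒᵖ) h.symm).trans (natCast_p (k := k))
    subst h
    rw [neg_sq, neg_eq_iff_add_eq_zero, ← two_mul]
    rw [Nat.cast_ofNat] at h2
    rw [h2, zero_mul]
  · rw [h.neg_pow]

/-- The antipode, into the opposite algebra. -/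
def antiHom : E' →ₐ[k] E'ᵐᵒᵖ := lift φ (negOp φ) (negOp_pmap φ)

/-- The antipode. -/
def antip : E' →ₗ[k] E' :=
  (MulOpposite.opLinearEquiv k : E' ≃ₗ[k] E'ᵐᵒᵖ).symm.toLinearMap ∘ₗ (antiHom φ).toLinearMap

theorem antip_apply (w : E') : antip φ w = (antiHom φ w).unop := rfl

theorem antip_mul (a c : E') : antip φ (a * c) = antip φ c * antip φ a := by
  simp [antip_apply, map_mul]

theorem antip_one : antip φ 1 = 1 := by simp [antip_apply]

theorem antip_ι (x : L) : antip φ (ιE φ x) = -ιE φ x := by
  rw [antip_apply, antiHom, lift_ι, negOp_apply]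
  rfl

theorem antipode_left (w : E') :
    LinearMap.mul' k E' ((antip φ).rTensor E' (comulHom φ w)) = algebraMap k E' (counitHom φ w) := by
  induction w using induction with
  | halg c =>
    rw [AlgHom.commutes, AlgHom.commutes, Algebra.TensorProduct.algebraMap_apply, LinearMap.rTensor_tmul,
      LinearMap.mul'_apply, Algebra.algebraMap_eq_smul_one, map_smul, antip_one, mul_one]
    simp [Algebra.algebraMap_eq_smul_one]
  | hι x => simp [comulHom_ι, counitHom_ι, antip_ι, antip_one]
  | hadd a c ha hc => simp [ha, hc]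
  | hmul a c ha hc =>
    have key : ∀ t : E' ⊗[k] E', LinearMap.mul' k E' ((antip φ).rTensor E' (comulHom φ a * t)) =
        algebraMap k E' (counitHom φ a) * LinearMap.mul' k E' ((antip φ).rTensor E' t) := by
      intro t
      induction t using TensorProduct.induction_on with
      | zero => simp
      | add _ _ h1 h2 => simp [mul_add, h1, h2]
      | tmul e f =>
        have h0 : ∀ s : E' ⊗[k] E', LinearMap.mul' k E' ((antip φ).rTensor E' (s * e ⊗ₜ[k] f)) =
            antip φ e * LinearMap.mul' k E' ((antip φ).rTensor E' s) * f := by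
          intro s
          induction s using TensorProduct.induction_on with
          | zero => simp
          | tmul g h => simp [antip_mul, mul_assoc]
          | add _ _ h1 h2 => simp [add_mul, mul_add, h1, h2]
        rw [h0, ha, ← Algebra.commutes, LinearMap.rTensor_tmul, LinearMap.mul'_apply, mul_assoc]
    rw [map_mul, key, hc, ← map_mul, ← map_mul]

theorem antipode_right (w : E') :
    LinearMap.mul' k E' ((antip φ).lTensor E' (comulHom φ w)) = algebraMap k E' (counitHom φ w) := by
  induction w using induction with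
  | halg c =>
    rw [AlgHom.commutes, AlgHom.commutes, Algebra.TensorProduct.algebraMap_apply, LinearMap.lTensor_tmul,
      LinearMap.mul'_apply, antip_one, mul_one]
    simp
  | hι x => simp [comulHom_ι, counitHom_ι, antip_ι, antip_one]
  | hadd a c ha hc => simp [ha, hc]
  | hmul a c ha hc =>
    have key : ∀ t : E' ⊗[k] E', LinearMap.mul' k E' ((antip φ).lTensor E' (t * comulHom φ c)) =
        LinearMap.mul' k E' ((antip φ).lTensor E' t) * algebraMap k E' (counitHom φ c) := by
      intro t
      induction t using TensorProduct.induction_on with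
      | zero => simp
      | add _ _ h1 h2 => simp [add_mul, h1, h2]
      | tmul e f =>
        have h0 : ∀ s : E' ⊗[k] E', LinearMap.mul' k E' ((antip φ).lTensor E' (e ⊗ₜ[k] f * s)) =
            e * LinearMap.mul' k E' ((antip φ).lTensor E' s) * antip φ f := by
          intro s
          induction s using TensorProduct.induction_on with
          | zero => simp
          | tmul g h => simp [antip_mul, mul_assoc]
          | add _ _ h1 h2 => simp [add_mul, mul_add, h1, h2]
        rw [h0, hc, LinearMap.lTensor_tmul, LinearMap.mul'_apply, mul_assoc, Algebra.commutes, mul_assoc]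
    rw [map_mul, key, ha, ← map_mul, ← map_mul]

instance instHopfAlgebra : HopfAlgebra k E' where
  antipode := antip φ
  mul_antipode_rTensor_comul := LinearMap.ext (antipode_left φ)
  mul_antipode_lTensor_comul := LinearMap.ext (antipode_right φ)

theorem prod_ofFn_sum {B : Type*} [Semiring B] {n : ℕ} (s : Fin n → Finset ℕ) (f : Fin n → ℕ → B) :
    (List.ofFn fun i => ∑ a ∈ s i, f i a).prod =
      ∑ a ∈ Fintype.piFinset s, (List.ofFn fun i => f i (a i)).prod := by
  classical
  induction n with
  | zero => simp [Fintype.piFinset_of_isEmpty]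
  | succ n ih =>
    rw [List.ofFn_succ, List.prod_cons, ih, Finset.sum_mul_sum, ← Finset.sum_product']
    refine Finset.sum_bij' (fun q _ => Fin.cons q.1 q.2) (fun a _ => (a 0, fun i => a i.succ)) ?_ ?_ ?_ ?_ ?_
    · intro q hq
      simp only [Finset.mem_product, Fintype.mem_piFinset] at hq ⊢
      intro i
      cases i using Fin.cases <;> simp [hq.1, hq.2]
    · intro a ha
      simp only [Finset.mem_product, Fintype.mem_piFinset] at ha ⊢
      exact ⟨ha 0, fun i => ha i.succ⟩
    · intro q hq; simp
    · intro a ha; exact Fin.cons_self_tail a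
    · intro q hq; simp [List.ofFn_succ]

theorem prod_ofFn_tmul {A B : Type*} [Semiring A] [Algebra k A] [Semiring B] [Algebra k B] {n : ℕ}
    (g : Fin n → A) (h : Fin n → B) :
    (List.ofFn fun i => g i ⊗ₜ[k] h i).prod = (List.ofFn g).prod ⊗ₜ[k] (List.ofFn h).prod := by
  induction n with
  | zero => simp [Algebra.TensorProduct.one_def]
  | succ n ih => simp [List.ofFn_succ, List.prod_cons, ih]

section Coords

variable {d : ℕ} (b : Module.Basis (Fin d) k L)

theorem mk_M (r : Fin d → ℕ) : mk φ (M b r) = (List.ofFn fun i => ιE φ (b i) ^ r i).prod := by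
  rw [M, map_list_prod, List.map_ofFn]
  exact congrArg List.prod (congrArg List.ofFn (funext fun i => map_pow (mk φ) _ _))

theorem comul_M (r : Fin d → ℕ) :
    CoalgebraStruct.comul (R := k) (mk φ (M b r)) =
      ∑ a ∈ Fintype.piFinset (fun i => Finset.range (r i + 1)),
        ((∏ i, (r i).choose (a i) : ℕ) : k) • (mk φ (M b a) ⊗ₜ[k] mk φ (M b fun i => r i - a i)) := by
  rw [comul_eq, mk_M, map_list_prod, List.map_ofFn]
  have h1 : ((comulHom φ) ∘ fun i => ιE φ (b i) ^ r i) = fun i => ∑ a ∈ Finset.range (r i + 1),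
      ((r i).choose a : k) • ((ιE φ (b i) ^ a) ⊗ₜ[k] (ιE φ (b i) ^ (r i - a))) := by
    funext i
    have hcm : Commute (ιE φ (b i) ⊗ₜ[k] (1 : E')) ((1 : E') ⊗ₜ[k] ιE φ (b i)) := by
      rw [Commute, SemiconjBy, Algebra.TensorProduct.tmul_mul_tmul, Algebra.TensorProduct.tmul_mul_tmul]; simp
    rw [Function.comp_apply, map_pow, comulHom_ι, hcm.add_pow]
    refine Finset.sum_congr rfl fun a _ => ?_
    rw [Algebra.TensorProduct.tmul_pow, Algebra.TensorProduct.tmul_pow, one_pow, one_pow,
      Algebra.TensorProduct.tmul_mul_tmul, one_mul, mul_one, ← Nat.cast_comm, ← nsmul_eq_mul, Nat.cast_smul_eq_nsmul]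
  rw [h1, prod_ofFn_sum]
  refine Finset.sum_congr rfl fun a _ => ?_
  rw [mk_M, mk_M, ← prod_ofFn_tmul]
  have hsmul : ∀ {n : ℕ} (c : Fin n → ℕ) (t : Fin n → E' ⊗[k] E'),
      (List.ofFn fun i => (c i : k) • t i).prod = ((∏ i, c i : ℕ) : k) • (List.ofFn t).prod := by
    intro n c t
    induction n with
    | zero => simp
    | succ n ih =>
      rw [List.ofFn_succ, List.prod_cons, ih, List.ofFn_succ, List.prod_cons, Fin.prod_univ_succ, Nat.cast_mul,
        smul_mul_smul_comm]
  exact hsmul _ _

theorem coord_M {r : Fin d → ℕ} (h : ∀ i, r i < p) (a : Fin d → Fin p) :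
    (basis b φ).coord a (mk φ (M b r)) = if (fun i => (a i : ℕ)) = r then 1 else 0 := by
  classical
  have hb : mk φ (M b r) = basis b φ (fun i => ⟨r i, h i⟩) := by rw [basis_apply]
  rw [hb, Module.Basis.coord_apply, Module.Basis.repr_self, Finsupp.single_apply]
  refine if_congr ⟨fun e => ?_, fun e => ?_⟩ rfl rfl
  · rw [← e]
  · exact funext fun i => Fin.ext (congrFun e i).symm

theorem conv_coord (a c m : Fin d → Fin p) :
    (WithConv.toConv ((basis b φ).coord a) * WithConv.toConv ((basis b φ).coord c) : CartDual.D k E')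
      (basis b φ m) =
      if (fun i => (a i : ℕ) + c i) = (fun i => (m i : ℕ)) then
        ((∏ i, (m i : ℕ).choose (a i) : ℕ) : k) else 0 := by
  classical
  rw [LinearMap.convMul_apply, basis_apply, comul_M, map_sum, map_sum]
  have hterm : ∀ q ∈ Fintype.piFinset (fun i => Finset.range ((m i : ℕ) + 1)),
      LinearMap.mul' k k (TensorProduct.map ((basis b φ).coord a) ((basis b φ).coord c)
        (((∏ i, (m i : ℕ).choose (q i) : ℕ) : k) • (mk φ (M b q) ⊗ₜ[k] mk φ (M b fun i => (m i : ℕ) - q i)))) =
      if (fun i => (a i : ℕ)) = q ∧ (fun i => (c i : ℕ)) = (fun i => (m i : ℕ) - q i) then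
        ((∏ i, (m i : ℕ).choose (q i) : ℕ) : k) else 0 := by
    intro q hq
    simp only [Fintype.mem_piFinset, Finset.mem_range] at hq
    rw [map_smul, map_smul, TensorProduct.map_tmul, LinearMap.mul'_apply,
      coord_M φ b (fun i => by have := hq i; have := (m i).isLt; omega),
      coord_M φ b (fun i => by have := (m i).isLt; omega)]
    by_cases h1 : (fun i => (a i : ℕ)) = q <;>
      by_cases h2 : (fun i => (c i : ℕ)) = (fun i => (m i : ℕ) - q i) <;> simp [h1, h2]
  rw [Finset.sum_congr rfl hterm]
  by_cases h : (fun i => (a i : ℕ) + c i) = (fun i => (m i : ℕ))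
  · rw [if_pos h, Finset.sum_eq_single (fun i => (a i : ℕ))]
    · rw [if_pos ⟨rfl, funext fun i => by have := congrFun h i; simp only at this ⊢; omega⟩]
    · intro q _ hq
      rw [if_neg fun hh => hq hh.1.symm]
    · intro hn
      refine absurd ?_ hn
      simp only [Fintype.mem_piFinset, Finset.mem_range]
      intro i
      have := congrFun h i
      omega
  · rw [if_neg h]
    refine Finset.sum_eq_zero fun q hq => if_neg fun hh => h (funext fun i => ?_)
    simp only [Fintype.mem_piFinset, Finset.mem_range] at hq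
    have h1 := congrFun hh.1 i
    have h2 := congrFun hh.2 i
    have := hq i
    omega

end Coords

section Finite

variable [Module.Finite k L]

instance instFinite : Module.Finite k E' := Module.Finite.of_basis (basis (Module.finBasis k L) φ)

instance instProjective : Module.Projective k E' := Module.Projective.of_basis (basis (Module.finBasis k L) φ)

/-- Primitive elements come from `L`. -/
theorem exists_eq_ι_of_primitive (v : E')
    (hv : ∀ f g : CartDual.D k E', (f * g) v = f v * g 1 + f 1 * g v) : ∃ x, ιE φ x = v := by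
  classical
  have hp := (Fact.out : p.Prime).one_lt
  haveI : NeZero p := ⟨(Fact.out : p.Prime).ne_zero⟩
  let b := Module.finBasis k L
  let B := basis b φ
  let e : Fin (Module.finrank k L) → Fin (Module.finrank k L) → Fin p := fun i => Pi.single i ⟨1, hp⟩
  have he : ∀ i j, ((e i j : Fin p) : ℕ) = (Pi.single i 1 : Fin (Module.finrank k L) → ℕ) j := fun i j => by
    rcases eq_or_ne j i with rfl | hne <;> simp [e, *]
  have hB1 : B 0 = 1 := by
    show basis b φ 0 = 1
    rw [basis_apply, mk_M]
    simp
  have hone : ∀ m, B.coord m (1 : E') = if m = 0 then 1 else 0 := fun m => by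
    rw [← hB1, Module.Basis.coord_apply, Module.Basis.repr_self, Finsupp.single_apply]
    exact if_congr eq_comm rfl rfl
  have hpair : ∀ a c : Fin (Module.finrank k L) → Fin p,
      (∑ m, B.repr v m * if (fun i => (a i : ℕ) + c i) = (fun i => (m i : ℕ)) then
        ((∏ i, (m i : ℕ).choose (a i) : ℕ) : k) else 0) =
      B.repr v a * (if c = 0 then 1 else 0) + (if a = 0 then 1 else 0) * B.repr v c := by
    intro a c
    have h := hv (WithConv.toConv (B.coord a)) (WithConv.toConv (B.coord c))
    rw [show (WithConv.toConv (B.coord a) : CartDual.D k E') v = B.repr v a from rfl,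
      show (WithConv.toConv (B.coord c) : CartDual.D k E') v = B.repr v c from rfl,
      show (WithConv.toConv (B.coord a) : CartDual.D k E') 1 = B.coord a (1 : E') from rfl,
      show (WithConv.toConv (B.coord c) : CartDual.D k E') 1 = B.coord c (1 : E') from rfl, hone, hone] at h
    rw [← h]
    conv_rhs => rw [← B.sum_repr v]
    show _ = (WithConv.toConv (B.coord a) * WithConv.toConv (B.coord c) : CartDual.D k E').ofConv _
    rw [map_sum]
    refine Finset.sum_congr rfl fun m _ => ?_
    rw [map_smul, smul_eq_mul]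
    congr 1
    exact (conv_coord φ b a c m).symm
  have hzero : ∀ m, (∀ i, m ≠ e i) → B.repr v m = 0 := by
    intro m hm
    by_cases h0 : m = 0
    · subst h0
      have h := hpair 0 0
      rw [Finset.sum_eq_single 0 (fun q _ hq => by
          rw [if_neg, mul_zero]
          intro hh
          exact hq (funext fun i => Fin.ext (by have := congrFun hh i; simpa using this.symm)))
        (fun hn => absurd (Finset.mem_univ _) hn)] at h
      simpa using h
    · obtain ⟨i, hi⟩ : ∃ i, m i ≠ 0 := by
        by_contra hh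
        push Not at hh
        exact h0 (funext hh)
      have hi' : 1 ≤ (m i : ℕ) := Nat.one_le_iff_ne_zero.2 fun hh => hi (Fin.ext hh)
      set c : Fin (Module.finrank k L) → Fin p := fun j =>
        ⟨(m j : ℕ) - (e i j : ℕ), lt_of_le_of_lt (Nat.sub_le _ _) (m j).isLt⟩ with hc
      have hsum : (fun j => (e i j : ℕ) + c j) = fun j => (m j : ℕ) := funext fun j => by
        rcases eq_or_ne j i with rfl | hne
        · simp [hc, he]; omega
        · simp [hc, he, hne]
      have hei : e i ≠ 0 := fun hh => by
        have := congrArg (fun q : _ → Fin p => (q i : ℕ)) hh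
        simp [he] at this
      have hcne : c ≠ 0 := fun hh => hm i (funext fun j => Fin.ext (by
        have h1 := congrFun hsum j
        rw [hh] at h1
        simpa using h1.symm))
      have h := hpair (e i) c
      rw [if_neg hei, if_neg hcne, mul_zero, zero_mul, add_zero, Finset.sum_eq_single m (fun q _ hq => by
          rw [if_neg, mul_zero]
          intro hh
          rw [hsum] at hh
          exact hq (funext fun j => Fin.ext (congrFun hh j).symm))
        (fun hn => absurd (Finset.mem_univ _) hn), if_pos hsum] at h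
      refine (mul_eq_zero.1 h).resolve_right fun hd0 => ?_
      have hd := (CharP.cast_eq_zero_iff k p _).1 hd0
      obtain ⟨j, -, hj⟩ := (Fact.out : p.Prime).prime.exists_mem_finset_dvd hd
      rcases eq_or_ne j i with rfl | hne
      · rw [he] at hj
        simp at hj
        have := Nat.le_of_dvd (by omega) hj
        have := (m j).isLt
        omega
      · rw [he] at hj
        simp [hne] at hj
        omega
  refine ⟨∑ i, B.repr v (e i) • b i, ?_⟩
  rw [map_sum]
  conv_rhs => rw [← B.sum_repr v]
  have hinj : Function.Injective e := fun i j h => by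
    by_contra hne
    have := congrArg (fun q : _ → Fin p => (q i : ℕ)) h
    simp [he, hne] at this
  rw [← Finset.sum_subset (s₁ := Finset.univ.image e) (Finset.subset_univ _) (fun m _ hm => by
      rw [hzero m (fun i hh => hm (Finset.mem_image.2 ⟨i, Finset.mem_univ _, hh.symm⟩)), zero_smul]),
    Finset.sum_image fun i _ j _ h => hinj h]
  refine Finset.sum_congr rfl fun i _ => ?_
  rw [map_smul]
  congr 1
  show _ = basis b φ (e i)
  rw [basis_apply, show (fun j => (e i j : ℕ)) = Pi.single i 1 from funext (he i), M_single b i]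
  rfl

local notation "A'" => CartDual.D k E'

theorem conv_apply_mul_ι (f g : A') (w : E') (y : L) :
    (f * g) (w * ιE φ y) =
      ((WithConv.toConv (f.ofConv ∘ₗ LinearMap.mulRight k (ιE φ y)) : A') * g) w +
        (f * (WithConv.toConv (g.ofConv ∘ₗ LinearMap.mulRight k (ιE φ y)) : A')) w := by
  simp only [LinearMap.convMul_apply, Bialgebra.comul_mul, comul_ι]
  generalize CoalgebraStruct.comul (R := k) w = t
  induction t using TensorProduct.induction_on with
  | zero => simp
  | add _ _ h1 h2 => simp only [add_mul, map_add, h1, h2]; abel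
  | tmul e c => simp [mul_add]

/-- The derivation attached to `y`. -/
def D (y : L) : Derivation k A' A' :=
  Derivation.mk'
    { toFun := fun f => WithConv.toConv (f.ofConv ∘ₗ LinearMap.mulRight k (ιE φ y))
      map_add' := fun f g => rfl
      map_smul' := fun c f => rfl }
    fun f g => WithConv.ext (LinearMap.ext fun w => by
      show (f * g) (w * ιE φ y) = _
      rw [conv_apply_mul_ι, smul_eq_mul, smul_eq_mul, add_comm, mul_comm g]
      rfl)

theorem D_apply (y : L) (f : A') (w : E') : D φ y f w = f (w * ιE φ y) := rfl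

theorem D_iterate (y : L) (n : ℕ) (f : A') (w : E') :
    (((D φ y).toLinearMap : Module.End k A') ^ n) f w = f (w * ιE φ y ^ n) := by
  induction n generalizing f with
  | zero => simp
  | succ n ih =>
    rw [pow_succ, Module.End.mul_apply, ih, pow_succ]
    show f (w * ιE φ y ^ n * ιE φ y) = _
    rw [mul_assoc]

theorem pow_p_eq_zero (f : A') (hf : Bialgebra.counitAlgHom k A' f = 0) : f ^ p = 0 := by
  have h1 : (f ^ p) 1 = 0 := by
    show Bialgebra.counitAlgHom k A' (f ^ p) = 0
    rw [map_pow, hf, zero_pow (Fact.out : p.Prime).ne_zero]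
  have h2 : ∀ (y : L) (w : E'), (f ^ p) (w * ιE φ y) = 0 := by
    intro y w
    have h : D φ y (f ^ p) = 0 := by
      rw [Derivation.leibniz_pow, ← Nat.cast_smul_eq_nsmul k, CharP.cast_eq_zero, zero_smul]
    rw [← D_apply, h]
    rfl
  have h3 : ∀ w v : E', (f ^ p) (v * w) = counitHom φ w * (f ^ p) v := by
    intro w
    induction w using induction with
    | halg c =>
      intro v
      rw [AlgHom.commutes, ← Algebra.commutes, ← Algebra.smul_def]
      show (f ^ p).ofConv (c • v) = _
      rw [map_smul]
      rfl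
    | hι y => intro v; rw [h2, counitHom_ι, zero_mul]
    | hadd a c ha hc =>
      intro v
      rw [mul_add, map_add (counitHom φ), add_mul, ← ha, ← hc]
      exact map_add (f ^ p).ofConv _ _
    | hmul a c ha hc => intro v; rw [← mul_assoc, hc, ha, map_mul]; ring
  refine WithConv.ext (LinearMap.ext fun w => ?_)
  have := h3 w 1
  rw [one_mul, h1, mul_zero] at this
  exact this

theorem ev_lTensor (δ : A' →ₗ[k] A') (w c c' : E') (h : ∀ g : A', δ g c = g c') (t : A' ⊗[k] A') :
    CartDual.ev₂ k E' (δ.lTensor A' t) (w ⊗ₜ c) = CartDual.ev₂ k E' t (w ⊗ₜ c') := by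
  induction t using TensorProduct.induction_on with
  | zero => simp
  | tmul a a' => simp [h]
  | add _ _ h1 h2 => simp [map_add, h1, h2]

theorem D_invariant (y : L) :
    CoalgebraStruct.comul (R := k) (A := A') ∘ₗ (D φ y).toLinearMap =
      LinearMap.lTensor A' (D φ y).toLinearMap ∘ₗ CoalgebraStruct.comul (R := k) (A := A') := by
  refine LinearMap.ext fun f => (CartDual.ev₂ k E').injective (TensorProduct.ext' fun a c => ?_)
  rw [LinearMap.comp_apply, LinearMap.comp_apply, ev_lTensor φ _ a c (c * ιE φ y) (fun g => rfl),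
    CartDual.ev₂_coalgebra_comul_tmul, CartDual.ev₂_coalgebra_comul_tmul]
  show f (a * c * ιE φ y) = _
  rw [mul_assoc]

theorem exists_D_eq (δ : Derivation k A' A')
    (hδ : CoalgebraStruct.comul (R := k) (A := A') ∘ₗ δ.toLinearMap =
      LinearMap.lTensor A' δ.toLinearMap ∘ₗ CoalgebraStruct.comul (R := k) (A := A')) :
    ∃ y, D φ y = δ := by
  let Ψ : Module.Dual k (Module.Dual k E') :=
    (CartDual.counit k E') ∘ₗ δ.toLinearMap ∘ₗ (CartDual.toDual k E').symm.toLinearMap
  obtain ⟨v, hv⟩ : ∃ v : E', ∀ f : A', δ f 1 = f v := by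
    refine ⟨(Module.evalEquiv k E').symm Ψ, fun f => ?_⟩
    have h := Module.apply_evalEquiv_symm_apply k E' f.ofConv Ψ
    rw [show f ((Module.evalEquiv k E').symm Ψ) = f.ofConv ((Module.evalEquiv k E').symm Ψ) from rfl, h]
    rfl
  have hval : ∀ (f : A') (w : E'), δ f w = f (w * v) := by
    intro f w
    have h := congrArg (fun t => CartDual.ev₂ k E' t (w ⊗ₜ (1 : E'))) (LinearMap.congr_fun hδ f)
    simp only [LinearMap.comp_apply] at h
    rw [ev_lTensor φ δ.toLinearMap w 1 v hv, CartDual.ev₂_coalgebra_comul_tmul,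
      CartDual.ev₂_coalgebra_comul_tmul, mul_one] at h
    exact h
  have hprim : ∀ f g : A', (f * g) v = f v * g 1 + f 1 * g v := by
    intro f g
    have hmul : ∀ a c : A', (a * c) 1 = a 1 * c 1 := fun a c => CartDual.counit_mul' k E' a c
    have h := hv (f * g)
    rw [Derivation.leibniz, smul_eq_mul, smul_eq_mul] at h
    rw [← h]
    show (f * δ g) 1 + (g * δ f) 1 = _
    rw [hmul, hmul, hv, hv]
    ring
  obtain ⟨y, hy⟩ := exists_eq_ι_of_primitive φ v hprim
  refine ⟨y, Derivation.ext fun f => WithConv.ext (LinearMap.ext fun w => ?_)⟩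
  show D φ y f w = δ f w
  rw [D_apply, hy, hval]

theorem exists_hopf :
    ∃ (A : Type (max u v)) (_ : CommRing A) (_ : HopfAlgebra k A), Module.Finite k A ∧
      (∀ f : A, Bialgebra.counitAlgHom k A f = 0 → f ^ p = 0) ∧
      ∃ e : L →ₗ[k] Derivation k A A, Function.Injective e ∧
        Set.range e = {δ : Derivation k A A | CoalgebraStruct.comul (R := k) (A := A) ∘ₗ δ.toLinearMap =
          LinearMap.lTensor A δ.toLinearMap ∘ₗ CoalgebraStruct.comul (R := k) (A := A)} ∧
        (∀ x y : L, e ⁅x, y⁆ = ⁅e x, e y⁆) ∧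
        (∀ x : L, (e (φ x)).toLinearMap = (e x).toLinearMap ^ p) := by
  refine ⟨A', inferInstance, inferInstance, inferInstance, pow_p_eq_zero φ,
    { toFun := D φ
      map_add' := fun x y => Derivation.ext fun f => WithConv.ext (LinearMap.ext fun w => by
        show f (w * ιE φ (x + y)) = f (w * ιE φ x) + f (w * ιE φ y)
        rw [map_add, mul_add]
        exact map_add f.ofConv _ _)
      map_smul' := fun c x => Derivation.ext fun f => WithConv.ext (LinearMap.ext fun w => by
        show f (w * ιE φ (c • x)) = c • f (w * ιE φ x)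
        rw [map_smul, mul_smul_comm]
        exact map_smul f.ofConv _ _) }, ?_, ?_, ?_, ?_⟩
  · intro x y h
    refine ιE_injective φ ?_
    rw [← sub_eq_zero]
    refine (Module.forall_dual_apply_eq_zero_iff k _).1 fun g => ?_
    have h1 := congrArg (fun δ : Derivation k A' A' => δ (WithConv.toConv g) 1) h
    simp only [LinearMap.coe_mk, AddHom.coe_mk, D_apply, one_mul] at h1
    rw [map_sub, sub_eq_zero]
    exact h1
  · refine Set.Subset.antisymm ?_ fun δ hδ => exists_D_eq φ δ hδ
    rintro _ ⟨y, rfl⟩
    exact D_invariant φ y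
  · intro x y
    refine Derivation.ext fun f => WithConv.ext (LinearMap.ext fun w => ?_)
    show f (w * ιE φ ⁅x, y⁆) = D φ y f (w * ιE φ x) - D φ x f (w * ιE φ y)
    rw [LieHom.map_lie, Ring.lie_def, mul_sub, D_apply, D_apply, mul_assoc, mul_assoc]
    exact map_sub f.ofConv _ _
  · intro x
    refine LinearMap.ext fun f => WithConv.ext (LinearMap.ext fun w => ?_)
    show D φ (φ x) f w = (((D φ x).toLinearMap : Module.End k A') ^ p) f w
    rw [D_iterate, D_apply, ιE_pmap]

theorem exists_matrix : ∃ (n : ℕ) (e : L →ₗ[k] Matrix (Fin n) (Fin n) k), PLie.IsPSubOfAssoc φ e := by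
  classical
  let B := (basis (Module.finBasis k L) φ).reindex (Fintype.equivFin _)
  refine ⟨_, (Algebra.leftMulMatrix B).toLinearMap ∘ₗ (ιE φ).toLinearMap, ?_, fun x y => ?_, fun x => ?_⟩
  · exact (Algebra.leftMulMatrix_injective B).comp (ιE_injective φ)
  · show Algebra.leftMulMatrix B (ιE φ ⁅x, y⁆) = _
    rw [LieHom.map_lie, Ring.lie_def, map_sub, map_mul, map_mul]
    rfl
  · show Algebra.leftMulMatrix B (ιE φ (φ x)) = _
    rw [ιE_pmap, map_pow]
    rfl

end Finite

end Groth.Agent.RLie.EnvAlg
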