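import Groth.Agent.RLie.Assoc

/-!
# Lie identities of degree `p` are detected by the free associative algebra
-/

set_option autoImplicit false
noncomputable section

universe u v w

open Finset

attribute [local instance 100] LieRing.ofAssociativeRing

namespace Groth.Agent.RLie

variable (k : Type) [CommRing k] (X : Type) [DecidableEq X]

/-- The map from the free Lie algebra to the free associative algebra. -/
def toAss : FreeLieAlgebra k X →ₗ⁅k⁆ FreeAlgebra k X :=
  FreeLieAlgebra.lift k (FreeAlgebra.ι k)

/-- A Lie subalgebra containing the generators is everything. -/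
theorem mem_of_gen (S : LieSubalgebra k (FreeLieAlgebra k X)) (h : ∀ a, FreeLieAlgebra.of k a ∈ S)
    (P : FreeLieAlgebra k X) : P ∈ S := by
  let g : FreeLieAlgebra k X →ₗ⁅k⁆ S := FreeLieAlgebra.lift k fun a => ⟨FreeLieAlgebra.of k a, h a⟩
  have : S.incl.comp g = LieHom.id := FreeLieAlgebra.hom_ext fun a => by
    rw [LieHom.comp_apply, FreeLieAlgebra.lift_of_apply]; rfl
  rw [show P = S.incl (g P) from (LieHom.congr_fun this P).symm]
  exact (g P).2

variable (x : X)

/-- The generator acting on `F × k`. -/
def genAct (a : X) : Module.End k (FreeLieAlgebra k X × k) where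
  toFun v := (⁅FreeLieAlgebra.of k a, v.1⁆ + v.2 • (if a = x then FreeLieAlgebra.of k a else 0), 0)
  map_add' v v' := by ext <;> simp [add_smul] <;> split_ifs <;> abel
  map_smul' c v := by ext <;> simp [smul_smul]

/-- The representation of the free associative algebra. -/
def Phi : FreeAlgebra k X →ₐ[k] Module.End k (FreeLieAlgebra k X × k) := FreeAlgebra.lift k (genAct k X x)

/-- The degree derivation in the variable `x`. -/
def deg : FreeLieAlgebra k X →ₗ[k] FreeLieAlgebra k X where
  toFun P := (Phi k X x (toAss k X P) (0, 1)).1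
  map_add' P Q := by simp
  map_smul' c P := by simp

theorem Phi_toAss (P : FreeLieAlgebra k X) :
    ∀ f c, Phi k X x (toAss k X P) (f, c) = (⁅P, f⁆ + c • deg k X x P, 0) := by
  let S : LieSubalgebra k (FreeLieAlgebra k X) :=
    { carrier := {P | ∀ f c, Phi k X x (toAss k X P) (f, c) = (⁅P, f⁆ + c • deg k X x P, 0)}
      zero_mem' := fun f c => by simp; rfl
      add_mem' := fun {P Q} hP hQ f c => by simp [hP f c, hQ f c, smul_add]; abel
      smul_mem' := fun r P hP f c => by simp [hP f c, smul_add, smul_smul, mul_comm c r]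
      lie_mem' := fun {P Q} hP hQ f c => by
        have hd : deg k X x ⁅P, Q⁆ = ⁅P, deg k X x Q⁆ - ⁅Q, deg k X x P⁆ := by
          simp only [deg, LinearMap.coe_mk, AddHom.coe_mk, LieHom.map_lie, Ring.lie_def, map_sub, map_mul,
            LinearMap.sub_apply, Module.End.mul_apply]
          rw [hQ 0 1, hP 0 1, hP, hQ]
          simp
        rw [hd, LieHom.map_lie, Ring.lie_def, map_sub, map_mul, map_mul, LinearMap.sub_apply, Module.End.mul_apply,
          Module.End.mul_apply, hQ, hP, hP, hQ]
        ext
        · simp [lie_lie, smul_sub]; abel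
        · simp }
  have hgen : ∀ a, FreeLieAlgebra.of k a ∈ S := fun a f c => by
    simp [deg, toAss, Phi, genAct, FreeLieAlgebra.lift_of_apply, FreeAlgebra.lift_ι_apply]
  exact mem_of_gen k X S hgen P

theorem deg_lie (P Q : FreeLieAlgebra k X) :
    deg k X x ⁅P, Q⁆ = ⁅P, deg k X x Q⁆ - ⁅Q, deg k X x P⁆ := by
  show (Phi k X x (toAss k X ⁅P, Q⁆) (0, 1)).1 = _
  rw [LieHom.map_lie, Ring.lie_def, map_sub, map_mul, map_mul, LinearMap.sub_apply, Module.End.mul_apply,
    Module.End.mul_apply, Phi_toAss, Phi_toAss, Phi_toAss, Phi_toAss]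
  simp

theorem deg_of (a : X) : deg k X x (FreeLieAlgebra.of k a) = if a = x then FreeLieAlgebra.of k a else 0 := by
  simp [deg, toAss, Phi, genAct, FreeLieAlgebra.lift_of_apply, FreeAlgebra.lift_ι_apply]

theorem deg_eq_zero_of_toAss {P : FreeLieAlgebra k X} (h : toAss k X P = 0) : deg k X x P = 0 := by
  show (Phi k X x (toAss k X P) (0, 1)).1 = 0
  rw [h, map_zero]; rfl

/-- The word along `w` ending in `a`. -/
abbrev word (a : X) (w : List X) : FreeLieAlgebra k X :=
  PLie.bracketWord (FreeLieAlgebra.of k) (FreeLieAlgebra.of k a) w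

theorem deg_word (a : X) (w : List X) :
    deg k X x (word k X a w) = (((a :: w).count x : ℕ) : k) • word k X a w := by
  induction w with
  | nil =>
    rw [word, PLie.bracketWord_nil, deg_of]
    split_ifs with h <;> simp [h]
  | cons i w ih =>
    rw [word, PLie.bracketWord_cons, deg_lie, ← word, ih, lie_smul, deg_of]
    rw [show (a :: i :: w).count x = (a :: w).count x + (if i = x then 1 else 0) by
      simp only [List.count_cons, beq_iff_eq]; omega, Nat.cast_add, add_smul]
    split_ifs with h
    · simp; rw [← lie_skew (word k X a w) (FreeLieAlgebra.of k i), sub_neg_eq_add]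
    · simp

theorem word_const (a : X) : ∀ w : List X, w ≠ [] → (∀ i ∈ w, i = a) → word k X a w = 0
  | [], h, _ => absurd rfl h
  | [i], _, hall => by
    simp [word, hall i (List.mem_singleton_self i)]
  | i :: j :: w, _, hall => by
    show ⁅_, word k X a (j :: w)⁆ = 0
    rw [word_const a (j :: w) (List.cons_ne_nil j w) fun z hz => hall z (List.mem_cons_of_mem i hz), lie_zero]

/-- The span of the words of length `n`. -/
def words (n : ℕ) : Submodule k (FreeLieAlgebra k X) :=
  Submodule.span k {P | ∃ a w, w.length + 1 = n ∧ P = word k X a w}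

/-- Linear combinations of generators. -/
def gens : Submodule k (FreeLieAlgebra k X) := Submodule.span k (Set.range (FreeLieAlgebra.of k))

theorem of_mem_gens (a : X) : FreeLieAlgebra.of k a ∈ gens k X := Submodule.subset_span ⟨a, rfl⟩

theorem lie_mem_words {u P : FreeLieAlgebra k X} {n : ℕ} (hu : u ∈ gens k X) (hP : P ∈ words k X n) :
    ⁅u, P⁆ ∈ words k X (n + 1) := by
  induction hu using Submodule.span_induction with
  | zero => simp
  | add a b _ _ ha hb => rw [add_lie]; exact add_mem ha hb
  | smul r a _ ha => rw [smul_lie]; exact Submodule.smul_mem _ r ha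
  | mem g hg =>
    obtain ⟨i, rfl⟩ := hg
    induction hP using Submodule.span_induction with
    | zero => simp
    | add a b _ _ ha hb => rw [lie_add]; exact add_mem ha hb
    | smul r a _ ha => rw [lie_smul]; exact Submodule.smul_mem _ r ha
    | mem g hg =>
      obtain ⟨a, w, hw, rfl⟩ := hg
      exact Submodule.subset_span ⟨a, i :: w, by simp [hw], rfl⟩

theorem gens_le_words {u : FreeLieAlgebra k X} (hu : u ∈ gens k X) : u ∈ words k X 1 := by
  refine Submodule.span_mono ?_ hu
  rintro _ ⟨a, rfl⟩
  exact ⟨a, [], rfl, rfl⟩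

theorem bracketWord_mem {ι : Type*} {y : ι → FreeLieAlgebra k X} {z : FreeLieAlgebra k X}
    (hy : ∀ i, y i ∈ gens k X) (hz : z ∈ gens k X) :
    ∀ w : List ι, PLie.bracketWord y z w ∈ words k X (w.length + 1)
  | [] => gens_le_words k X hz
  | i :: w => lie_mem_words k X (hy i) (bracketWord_mem hy hz w)

theorem jacobson_mem (p : ℕ) [Fact p.Prime] [CharP k p] {a b : FreeLieAlgebra k X} (ha : a ∈ gens k X)
    (hb : b ∈ gens k X) : PLie.jacobson k p a b ∈ words k X p := by
  rw [jacobson_eq]
  refine Submodule.sum_mem _ fun t _ => Submodule.smul_mem _ _ ?_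
  have := bracketWord_mem k X (y := PLie.pair a b) (fun i => by cases i <;> assumption) hb (List.ofFn t)
  rwa [List.length_ofFn, Nat.sub_add_cancel (Fact.out : p.Prime).one_le] at this

end Groth.Agent.RLie

namespace Groth.Agent.RLie

variable (p : ℕ) [Fact p.Prime]

local notation "k" => ZMod p
local notation "F" => FreeLieAlgebra (ZMod p) (Fin 3)

/-- A Lie identity of degree `p` in three variables holds if it holds associatively. -/
theorem eq_zero_of_toAss {P : F} (hP : P ∈ words k (Fin 3) p) (h : toAss k (Fin 3) P = 0) : P = 0 := by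
  let E : Fin 3 → Module.End k F := fun i => 1 - deg k (Fin 3) i ^ (p - 1)
  have hp := (Fact.out : p.Prime)
  have hfix : ∀ i, E i P = P := fun i => by
    have h0 := deg_eq_zero_of_toAss k (Fin 3) i h
    obtain ⟨n, hn⟩ : ∃ n, p - 1 = n + 1 := ⟨p - 2, by have := hp.two_le; omega⟩
    simp [E, hn, pow_succ, h0]
  have hkill : E 0 (E 1 (E 2 P)) = 0 := by
    suffices H : words k (Fin 3) p ≤ LinearMap.ker (E 0 * E 1 * E 2) from by
      simpa [Module.End.mul_apply] using H hP
    rw [words, Submodule.span_le]
    rintro _ ⟨a, w, hw, rfl⟩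
    set c : Fin 3 → k := fun i => (((a :: w).count i : ℕ) : k)
    have hE : ∀ i, E i (word k (Fin 3) a w) = (1 - c i ^ (p - 1)) • word k (Fin 3) a w := by
      intro i
      have hpow : ∀ n : ℕ, (deg k (Fin 3) i ^ n) (word k (Fin 3) a w) = c i ^ n • word k (Fin 3) a w := by
        intro n
        induction n with
        | zero => simp
        | succ n ih => rw [pow_succ', Module.End.mul_apply, ih, map_smul, deg_word, smul_smul, ← pow_succ]
      simp [E, hpow, sub_smul]
    by_cases hall : ∀ i, c i = 0
    · have hca := hall a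
      simp only [c, ZMod.natCast_eq_zero_iff] at hca
      have hlen : (a :: w).length = p := hw
      have hcnt : (a :: w).count a = p :=
        le_antisymm (hlen ▸ List.count_le_length) (Nat.le_of_dvd (by simp) hca)
      have heq : ∀ i ∈ a :: w, a = i := List.count_eq_length.1 (hcnt.trans hlen.symm)
      have hne : w ≠ [] := fun h0 => by have := hp.two_le; rw [h0, List.length_nil] at hw; omega
      rw [word_const k (Fin 3) a w hne fun i hi => (heq i (List.mem_cons_of_mem a hi)).symm]
      simp
    · push Not at hall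
      obtain ⟨i, hi⟩ := hall
      have h1 : (1 : k) - c i ^ (p - 1) = 0 := by rw [ZMod.pow_card_sub_one_eq_one hi, sub_self]
      simp only [SetLike.mem_coe, LinearMap.mem_ker, Module.End.mul_apply, hE, map_smul, smul_smul]
      fin_cases i <;> simp_all
  rwa [hfix, hfix, hfix] at hkill

variable {R : Type u} [CommRing R] [CharP R p] {L : Type v} [LieRing L] [LieAlgebra R L]

theorem map_jacobson {L' : Type w} [LieRing L'] [LieAlgebra R L'] (g : L →ₗ⁅R⁆ L') (a b : L) :
    g (PLie.jacobson R p a b) = PLie.jacobson R p (g a) (g b) := by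
  rw [jacobson_eq, jacobson_eq]
  show (g : L →ₗ[R] L') _ = _
  rw [map_sum]
  refine sum_congr rfl fun t _ => ?_
  rw [map_smul]
  congr 1
  rw [LieHom.coe_toLinearMap, bracketWord_map g (fun x y => g.map_lie x y), pair_comp]

/-- Transfer of a degree `p` identity. -/
theorem transfer (v : Fin 3 → L) (P : F) (hP : P ∈ words k (Fin 3) p) (h : toAss k (Fin 3) P = 0)
    (Q : L) (hQ : ∀ g : F → L, g 0 = 0 → (∀ a b, g (a + b) = g a + g b) → (∀ a b, g (a - b) = g a - g b) →
      (∀ a b, g (PLie.jacobson k p a b) = PLie.jacobson R p (g a) (g b)) →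
      (∀ i, g (FreeLieAlgebra.of k i) = v i) → g P = Q) : Q = 0 := by
  letI : Module k L := Module.compHom L (ZMod.castHom (dvd_refl p) R)
  letI : LieAlgebra k L := { lie_smul := fun c x y => lie_smul ((ZMod.castHom (dvd_refl p) R) c) x y }
  let g : F →ₗ⁅k⁆ L := FreeLieAlgebra.lift k v
  rw [← hQ g (map_zero g) (map_add g) (map_sub g) ?_ fun i => FreeLieAlgebra.lift_of_apply v i, eq_zero_of_toAss p hP h,
    map_zero g]
  intro a b
  rw [map_jacobson p g]
  simp only [jacobson_eq]
  refine sum_congr rfl fun t _ => ?_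
  show (ZMod.castHom (dvd_refl p) R) (coef k p t) • PLie.bracketWord (PLie.pair (g a) (g b)) (g b) (List.ofFn t) = _
  rw [show (ZMod.castHom (dvd_refl p) R) (coef k p t) = coef R p t by simp [coef, ZMod.castHom_apply]]

/-- Jacobson's sum is symmetric. -/
theorem jacobson_comm (a b : L) : PLie.jacobson R p a b = PLie.jacobson R p b a := by
  rw [← sub_eq_zero]
  let o : Fin 3 → F := FreeLieAlgebra.of k
  refine transfer p (R := R) ![a, b, 0] (PLie.jacobson k p (o 0) (o 1) - PLie.jacobson k p (o 1) (o 0)) ?_ ?_ _ ?_
  · exact sub_mem (jacobson_mem k _ p (of_mem_gens k _ 0) (of_mem_gens k _ 1))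
      (jacobson_mem k _ p (of_mem_gens k _ 1) (of_mem_gens k _ 0))
  · rw [map_sub, map_jacobson, map_jacobson]
    have h1 := add_pow_eq (R := k) p (toAss k (Fin 3) (o 0)) (toAss k (Fin 3) (o 1))
    have h2 := add_pow_eq (R := k) p (toAss k (Fin 3) (o 1)) (toAss k (Fin 3) (o 0))
    rw [add_comm (toAss k (Fin 3) (o 1)), h1] at h2
    linear_combination (norm := abel) -h2
  · intro g _ _ hsub hj hof
    rw [hsub, hj, hj, hof, hof]; rfl

/-- Jacobson's sum is a cocycle. -/
theorem jacobson_assoc (a b c : L) :
    PLie.jacobson R p a b + PLie.jacobson R p (a + b) c =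
      PLie.jacobson R p b c + PLie.jacobson R p a (b + c) := by
  rw [← sub_eq_zero]
  let o : Fin 3 → F := FreeLieAlgebra.of k
  have ho : ∀ i, o i ∈ gens k (Fin 3) := of_mem_gens k _
  refine transfer p (R := R) ![a, b, c] (PLie.jacobson k p (o 0) (o 1) + PLie.jacobson k p (o 0 + o 1) (o 2) -
    (PLie.jacobson k p (o 1) (o 2) + PLie.jacobson k p (o 0) (o 1 + o 2))) ?_ ?_ _ ?_
  · exact sub_mem (add_mem (jacobson_mem k _ p (ho 0) (ho 1)) (jacobson_mem k _ p (add_mem (ho 0) (ho 1)) (ho 2)))
      (add_mem (jacobson_mem k _ p (ho 1) (ho 2)) (jacobson_mem k _ p (ho 0) (add_mem (ho 1) (ho 2))))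
  · simp only [map_sub, map_add, map_jacobson]
    generalize toAss k (Fin 3) (o 0) = A, toAss k (Fin 3) (o 1) = B, toAss k (Fin 3) (o 2) = C
    have h1 := add_pow_eq (R := k) p (A + B) C
    rw [add_pow_eq (R := k) p A B] at h1
    have h2 := add_pow_eq (R := k) p A (B + C)
    rw [add_pow_eq (R := k) p B C, ← add_assoc, h1] at h2
    linear_combination (norm := abel) -h2
  · intro g _ hadd hsub hj hof
    simp only [hsub, hadd, hj, o, hof]; rfl

theorem bracketWord_smul (c : R) (a b : L) : ∀ w : List Bool,
    PLie.bracketWord (PLie.pair (c • a) (c • b)) (c • b) w = c ^ (w.length + 1) • PLie.bracketWord (PLie.pair a b) b w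
  | [] => by simp
  | i :: w => by
    simp only [PLie.bracketWord_cons, bracketWord_smul c a b w, List.length_cons]
    rw [lie_smul, show PLie.pair (c • a) (c • b) i = c • PLie.pair a b i by cases i <;> rfl, smul_lie, smul_smul,
      ← pow_succ]

theorem jacobson_smul (c : R) (a b : L) :
    PLie.jacobson R p (c • a) (c • b) = c ^ p • PLie.jacobson R p a b := by
  rw [jacobson_eq, jacobson_eq, smul_sum]
  refine sum_congr rfl fun t _ => ?_
  rw [bracketWord_smul, List.length_ofFn, Nat.sub_add_cancel (Fact.out : p.Prime).one_le, smul_comm]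

theorem jacobson_zero_right (a : L) : PLie.jacobson R p a 0 = 0 := by
  refine sum_eq_zero fun t _ => ?_
  have : ∀ w : List Bool, PLie.bracketWord (PLie.pair a 0) (0 : L) w = 0 := fun w => by
    induction w with
    | nil => rfl
    | cons i w ih => rw [PLie.bracketWord_cons, ih, lie_zero]
  rw [this, smul_zero]

theorem jacobson_zero_left (b : L) : PLie.jacobson R p (0 : L) b = 0 := by
  rw [jacobson_comm, jacobson_zero_right]

theorem jacobson_smul_self (c d : R) (a : L) : PLie.jacobson R p (c • a) (d • a) = 0 := by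
  refine sum_eq_zero fun t _ => ?_
  have hne : List.ofFn t ≠ [] := fun h => by
    have := congrArg List.length h
    have := (Fact.out : p.Prime).two_le
    simp at *; omega
  have : ∀ w : List Bool, w ≠ [] → PLie.bracketWord (PLie.pair (c • a) (d • a)) (d • a) w = 0 := by
    intro w
    induction w with
    | nil => exact fun h => absurd rfl h
    | cons i w ih =>
      intro _
      rw [PLie.bracketWord_cons]
      by_cases hw : w = []
      · subst hw; cases i <;> simp [PLie.pair]
      · rw [ih hw, lie_zero]
  rw [this _ hne, smul_zero]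

/-- The adjoint representation turns Jacobson's sum into the associative defect. -/
theorem ad_jacobson (a b : L) :
    LieAlgebra.ad R L (PLie.jacobson R p a b) =
      LieAlgebra.ad R L a ^ p + LieAlgebra.ad R L b ^ p - LieAlgebra.ad R L (a + b) ^ p := by
  rw [map_jacobson p (LieAlgebra.ad R L), map_add, add_pow_eq (R := R) p]
  abel

end Groth.Agent.RLie
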