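import Groth.Agent.RLie.ThreeDim

/-!
# First order deformations of the Heisenberg algebra
-/

set_option autoImplicit false
noncomputable section

universe u v

open Finset
open DualNumber TrivSqZeroExt

namespace Groth.Agent.RLie

variable {K : Type u} [Field K] (p : ℕ) [Fact p.Prime] [CharP K p] [CharP (DualNumber K) p]
  {L : Type v} [LieRing L] [LieAlgebra (DualNumber K) L] (bs : Module.Basis (Fin 3) (DualNumber K) L)

local notation "D" => DualNumber K

theorem deform_heis_iff (a b c d e f g h i : K)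
    (hxy : ⁅bs 0, bs 1⁆ = (a • ε : D) • bs 0 + (b • ε : D) • bs 1 + (c • ε : D) • bs 2)
    (hxz : ⁅bs 0, bs 2⁆ = (d • ε : D) • bs 0 + (e • ε : D) • bs 1 + (f • ε : D) • bs 2)
    (hyz : ⁅bs 1, bs 2⁆ = (1 + g • ε : D) • bs 0 + (h • ε : D) • bs 1 + (i • ε : D) • bs 2) :
    Nonempty (PLie.PMap D p L) ↔ (p = 2 → b = 0 ∧ c = 0 ∧ e = 0) := by
  have h1g : (1 + g • ε : D) = m 1 g := by apply TrivSqZeroExt.ext <;> simp
  have hxy' : ⁅bs 0, bs 1⁆ = vec bs (m 0 a) (m 0 b) (m 0 c) := by rw [hxy]; simp only [smul_eps, vec]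
  have hxz' : ⁅bs 0, bs 2⁆ = vec bs (m 0 d) (m 0 e) (m 0 f) := by rw [hxz]; simp only [smul_eps, vec]
  have hyz' : ⁅bs 1, bs 2⁆ = vec bs (m 1 g) (m 0 h) (m 0 i) := by rw [hyz, h1g]; simp only [smul_eps, vec]
  obtain ⟨b0, b1, b2⟩ := basis_vec bs
  have hp := (Fact.out : p.Prime)
  obtain ⟨hj0, -, -⟩ := jacobi_eqs bs hxy' hxz' hyz'
  have hbf : b + f = 0 := by
    have h := congrArg TrivSqZeroExt.snd hj0
    simp at h
    linear_combination -h
  have L0 := fun α β γ => (lie_basis bs hxy' hxz' hyz' α β γ).1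
  have L1 := fun α β γ => (lie_basis bs hxy' hxz' hyz' α β γ).2.1
  have L2 := fun α β γ => (lie_basis bs hxy' hxz' hyz' α β γ).2.2
  set A0 := LieAlgebra.ad D L (bs 0) with hA0
  set A1 := LieAlgebra.ad D L (bs 1) with hA1
  set A2 := LieAlgebra.ad D L (bs 2) with hA2
  have comp : ∀ α β γ : D,
      A0 (A0 (vec bs α β γ)) = 0 ∧
      A1 (A1 (vec bs α β γ)) =
        vec bs (m 0 (γ.fst * (i - a) - α.fst * c)) (m 0 (-(γ.fst * b))) (m 0 (-(γ.fst * c))) ∧
      A2 (A2 (vec bs α β γ)) =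
        vec bs (m 0 (β.fst * (d + h) + α.fst * e)) (m 0 (β.fst * e)) (m 0 (β.fst * f)) := by
    intro α β γ
    simp only [A0, A1, A2, LieAlgebra.ad_apply, L0, L1, L2]
    refine ⟨?_, ?_, ?_⟩
    · rw [← vec_zero bs]; congr 1 <;> apply TrivSqZeroExt.ext <;> simp
    · congr 1 <;> apply TrivSqZeroExt.ext <;> simp <;> ring
    · congr 1 <;> apply TrivSqZeroExt.ext <;> simp <;> ring
  rw [nonempty_pmap_iff bs]
  constructor
  · intro hall hp2
    obtain ⟨y1, hy1⟩ := hall 1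
    obtain ⟨y2, hy2⟩ := hall 2
    obtain ⟨α, β, γ, rfl⟩ := exists_vec bs y1
    obtain ⟨α', β', γ', rfl⟩ := exists_vec bs y2
    have r0 := LinearMap.congr_fun hy1 (bs 0)
    have r1 := LinearMap.congr_fun hy1 (bs 1)
    have r2 := LinearMap.congr_fun hy1 (bs 2)
    have s0 := LinearMap.congr_fun hy2 (bs 0)
    have s1 := LinearMap.congr_fun hy2 (bs 1)
    have s2 := LinearMap.congr_fun hy2 (bs 2)
    rw [← hA1, hp2, pow_two, Module.End.mul_apply] at r0 r1 r2
    rw [← hA2, hp2, pow_two, Module.End.mul_apply] at s0 s1 s2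
    rw [b0, (comp _ _ _).2.1, LieAlgebra.ad_apply, vec_lie bs hxy' hxz' hyz'] at r0
    rw [b1, (comp _ _ _).2.1, LieAlgebra.ad_apply, vec_lie bs hxy' hxz' hyz'] at r1
    rw [b2, (comp _ _ _).2.1, LieAlgebra.ad_apply, vec_lie bs hxy' hxz' hyz'] at r2
    rw [b0, (comp _ _ _).2.2, LieAlgebra.ad_apply, vec_lie bs hxy' hxz' hyz'] at s0
    rw [b1, (comp _ _ _).2.2, LieAlgebra.ad_apply, vec_lie bs hxy' hxz' hyz'] at s1
    rw [b2, (comp _ _ _).2.2, LieAlgebra.ad_apply, vec_lie bs hxy' hxz' hyz'] at s2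
    obtain ⟨r00, r01, r02⟩ := vec_ext bs r0
    obtain ⟨r10, r11, r12⟩ := vec_ext bs r1
    obtain ⟨r20, r21, r22⟩ := vec_ext bs r2
    obtain ⟨s00, s01, s02⟩ := vec_ext bs s0
    obtain ⟨s10, s11, s12⟩ := vec_ext bs s1
    obtain ⟨s20, s21, s22⟩ := vec_ext bs s2
    simp [TrivSqZeroExt.ext_iff] at r00 r01 r02 r10 r11 r12 r20 r21 r22 s00 s01 s02 s10 s11 s12 s20 s21 s22
    grind
  · intro hif l
    fin_cases l
    · refine ⟨0, ?_⟩
      rw [map_zero]
      exact pow_eq_zero_of_le hp.two_le (bs.ext fun j => by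
        obtain ⟨α, β, γ, hq⟩ := exists_vec bs (bs j)
        rw [hq, pow_two, Module.End.mul_apply]; exact (comp α β γ).1)
    all_goals
      rcases (show p = 2 ∨ p = 3 ∨ 4 ≤ p by have := hp.two_le; omega) with hp2 | hp3 | hp4
    · obtain ⟨hb, hc, he⟩ := hif hp2
      refine ⟨vec bs 0 (m 0 (i - a)) 0, bs.ext fun j => ?_⟩
      show (A1 ^ p) (bs j) = _
      rw [hp2, pow_two, Module.End.mul_apply]
      fin_cases j <;>
        simp only [Fin.zero_eta, Fin.mk_one, Fin.reduceFinMk, b0, b1, b2, (comp _ _ _).2.1] <;>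
        simp only [LieAlgebra.ad_apply, vec_lie bs hxy' hxz' hyz'] <;>
        congr 1 <;> apply TrivSqZeroExt.ext <;> simp [hb, hc]
    · refine ⟨vec bs 0 (m 0 (-c)) 0, bs.ext fun j => ?_⟩
      show (A1 ^ p) (bs j) = _
      rw [hp3, pow_succ', Module.End.mul_apply, pow_two, Module.End.mul_apply]
      fin_cases j <;>
        simp only [Fin.zero_eta, Fin.mk_one, Fin.reduceFinMk, b0, b1, b2, (comp _ _ _).2.1] <;>
        simp only [A1, LieAlgebra.ad_apply, L1, vec_lie bs hxy' hxz' hyz'] <;>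
        congr 1 <;> apply TrivSqZeroExt.ext <;> simp <;> ring
    · refine ⟨0, ?_⟩
      rw [map_zero]
      refine pow_eq_zero_of_le hp4 (bs.ext fun j => ?_)
      obtain ⟨α, β, γ, hq⟩ := exists_vec bs (bs j)
      show (A1 ^ 4) (bs j) = 0
      rw [hq, show 4 = 2 + 2 from rfl, pow_add, pow_two, Module.End.mul_apply, Module.End.mul_apply,
        Module.End.mul_apply, (comp _ _ _).2.1, (comp _ _ _).2.1, ← vec_zero bs]
      congr 1 <;> apply TrivSqZeroExt.ext <;> simp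
    · obtain ⟨hb, hc, he⟩ := hif hp2
      have hf : f = 0 := by rw [hb, zero_add] at hbf; exact hbf
      refine ⟨vec bs 0 0 (m 0 (-(d + h))), bs.ext fun j => ?_⟩
      show (A2 ^ p) (bs j) = _
      rw [hp2, pow_two, Module.End.mul_apply]
      fin_cases j <;>
        simp only [Fin.zero_eta, Fin.mk_one, Fin.reduceFinMk, b0, b1, b2, (comp _ _ _).2.2] <;>
        simp only [LieAlgebra.ad_apply, vec_lie bs hxy' hxz' hyz'] <;>
        congr 1 <;> apply TrivSqZeroExt.ext <;> simp [he, hf] <;> ring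
    · refine ⟨vec bs 0 0 (m 0 e), bs.ext fun j => ?_⟩
      show (A2 ^ p) (bs j) = _
      rw [hp3, pow_succ', Module.End.mul_apply, pow_two, Module.End.mul_apply]
      fin_cases j <;>
        simp only [Fin.zero_eta, Fin.mk_one, Fin.reduceFinMk, b0, b1, b2, (comp _ _ _).2.2] <;>
        simp only [A2, LieAlgebra.ad_apply, L2, vec_lie bs hxy' hxz' hyz'] <;>
        congr 1 <;> apply TrivSqZeroExt.ext <;> simp <;> ring
    · refine ⟨0, ?_⟩
      rw [map_zero]
      refine pow_eq_zero_of_le hp4 (bs.ext fun j => ?_)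
      obtain ⟨α, β, γ, hq⟩ := exists_vec bs (bs j)
      show (A2 ^ 4) (bs j) = 0
      rw [hq, show 4 = 2 + 2 from rfl, pow_add, pow_two, Module.End.mul_apply, Module.End.mul_apply,
        Module.End.mul_apply, (comp _ _ _).2.2, (comp _ _ _).2.2, ← vec_zero bs]
      congr 1 <;> apply TrivSqZeroExt.ext <;> simp

end Groth.Agent.RLie
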