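import Groth.Agent.RLie.PMap

/-!
# Radical, nilradical and nilpotent ideals are stable under the `p`-map
-/

set_option autoImplicit false
noncomputable section

universe u v

open Finset

namespace Groth.Agent.RLie

variable {R : Type u} [CommRing R] {p : ℕ} [Fact p.Prime] [CharP R p]
variable {L : Type v} [LieRing L] [LieAlgebra R L] (φ : PLie.PMap R p L)

theorem ad_pow_mem (I : LieIdeal R L) {x : L} (hx : x ∈ I) (z : L) : (LieAlgebra.ad R L x ^ p) z ∈ I := by
  obtain ⟨n, hn⟩ : ∃ n, p = n + 1 := ⟨p - 1, by have := (Fact.out : p.Prime).two_le; omega⟩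
  rw [hn, pow_succ', Module.End.mul_apply, LieAlgebra.ad_apply]
  exact lie_mem_left R L I x _ hx

/-- An ideal and the `p`-th power of one of its elements span an ideal. -/
def adjoinPow (I : LieIdeal R L) {x : L} (hx : x ∈ I) : LieIdeal R L :=
  { toSubmodule := I.toSubmodule ⊔ Submodule.span R {φ x}
    lie_mem := fun {z m} hm => by
      obtain ⟨a, ha, c, hc, rfl⟩ := Submodule.mem_sup.1 hm
      obtain ⟨r, rfl⟩ := Submodule.mem_span_singleton.1 hc
      rw [lie_add, lie_smul, ← lie_skew z (φ x), ad_pow_apply]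
      exact Submodule.mem_sup_left (add_mem (I.lie_mem ha) (Submodule.smul_mem _ _ (neg_mem (ad_pow_mem I hx z)))) }

theorem mem_adjoinPow (I : LieIdeal R L) {x : L} (hx : x ∈ I) : φ x ∈ adjoinPow φ I hx :=
  Submodule.mem_sup_right (Submodule.mem_span_singleton_self _)

theorem le_adjoinPow (I : LieIdeal R L) {x : L} (hx : x ∈ I) : I ≤ adjoinPow φ I hx := fun _ h =>
  Submodule.mem_sup_left h

theorem lie_adjoinPow_le (I : LieIdeal R L) {x : L} (hx : x ∈ I) (z m : L) (hm : m ∈ adjoinPow φ I hx) :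
    ⁅m, z⁆ ∈ I := by
  obtain ⟨a, ha, c, hc, rfl⟩ := Submodule.mem_sup.1 hm
  obtain ⟨r, rfl⟩ := Submodule.mem_span_singleton.1 hc
  rw [add_lie, smul_lie, ad_pow_apply]
  exact add_mem (lie_mem_left R L I a z ha) (Submodule.smul_mem _ _ (ad_pow_mem I hx z))

theorem radical_stable {k : Type u} [Field k] [CharP k p] [LieAlgebra k L] [Module.Finite k L]
    (φ : PLie.PMap k p L) {x : L} (hx : x ∈ LieAlgebra.radical k L) : φ x ∈ LieAlgebra.radical k L := by
  set Rd := LieAlgebra.radical k L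
  set K' := adjoinPow φ Rd hx
  suffices h : LieAlgebra.IsSolvable K' from
    (LieAlgebra.LieIdeal.solvable_iff_le_radical (I := K')).1 h (mem_adjoinPow φ Rd hx)
  haveI : LieAlgebra.IsSolvable Rd := inferInstance
  obtain ⟨n, hn⟩ := (LieAlgebra.isSolvable_iff k Rd).1 inferInstance
  refine (LieAlgebra.isSolvable_iff k K').2 ⟨n + 1, ?_⟩
  rw [LieIdeal.derivedSeries_eq_bot_iff] at hn ⊢
  rw [eq_bot_iff, ← hn]
  have h1 : LieAlgebra.derivedSeriesOfIdeal k L 1 K' ≤ Rd := by
    rw [LieAlgebra.derivedSeriesOfIdeal_succ, LieAlgebra.derivedSeriesOfIdeal_zero, LieSubmodule.lieIdeal_oper_eq_span,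
      LieSubmodule.lieSpan_le]
    rintro _ ⟨a, b, rfl⟩
    exact lie_adjoinPow_le φ Rd hx b a a.2
  rw [LieAlgebra.derivedSeriesOfIdeal_add]
  exact LieAlgebra.derivedSeriesOfIdeal_mono h1 n

theorem isNilpotent_of_pNilpotent {k : Type u} [Field k] [CharP k p] [LieAlgebra k L] [Module.Finite k L]
    (φ : PLie.PMap k p L) (I : LieIdeal k L) (hnil : ∀ x ∈ I, PLie.IsPNilpotent φ x) : LieRing.IsNilpotent I := by
  haveI : Module.Finite k I := inferInstanceAs (Module.Finite k I.toSubmodule)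
  rw [LieAlgebra.isNilpotent_iff_forall (R := k)]
  rintro ⟨x, hx⟩
  obtain ⟨n, hn⟩ := hnil x hx
  have key : ∀ n, LieAlgebra.ad k L (φ.toFun^[n] x) = LieAlgebra.ad k L x ^ p ^ n := fun n => by
    induction n with
    | zero => simp
    | succ n ih => rw [Function.iterate_succ_apply', φ.ad_map, ih, ← pow_mul, pow_succ]
  refine ⟨p ^ n, LinearMap.ext fun z => ?_⟩
  have hres : ∀ j : ℕ, (((LieAlgebra.ad k I ⟨x, hx⟩) ^ j) z : L) = (LieAlgebra.ad k L x ^ j) (z : L) := fun j => by
    induction j with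
    | zero => rfl
    | succ j ih =>
      rw [pow_succ', pow_succ', Module.End.mul_apply, Module.End.mul_apply, LieAlgebra.ad_apply, LieAlgebra.ad_apply,
        ← ih]
      rfl
  refine Subtype.ext ?_
  rw [hres, ← key, hn, map_zero]
  rfl

theorem nilradical_stable {k : Type u} [Field k] [CharP k p] [LieAlgebra k L] [Module.Finite k L]
    (φ : PLie.PMap k p L) (N : LieIdeal k L) [hN : LieRing.IsNilpotent N]
    (hmax : ∀ I : LieIdeal k L, LieRing.IsNilpotent I → I ≤ N) {x : L} (hx : x ∈ N) : φ x ∈ N := by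
  set K' := adjoinPow φ N hx
  refine hmax K' ?_ (mem_adjoinPow φ N hx)
  haveI : Module.Finite k K' := inferInstanceAs (Module.Finite k K'.toSubmodule)
  haveI : Module.Finite k N := inferInstanceAs (Module.Finite k N.toSubmodule)
  rw [LieAlgebra.isNilpotent_iff_forall (R := k)]
  rintro ⟨m, hm⟩
  obtain ⟨a, ha, c, hc, rfl⟩ := Submodule.mem_sup.1 hm
  obtain ⟨r, rfl⟩ := Submodule.mem_span_singleton.1 hc
  obtain ⟨q, hq⟩ := LieModule.IsNilpotent.nilpotent k N N
  set Ax : Module.End k N := LieAlgebra.ad k N ⟨x, hx⟩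
  set T : Module.End k N := LieAlgebra.ad k N ⟨a, ha⟩ + r • Ax ^ p
  have hlow : ∀ (u : N) (n : ℕ), ∀ z ∈ LieModule.lowerCentralSeries k N N n,
      ⁅u, z⁆ ∈ LieModule.lowerCentralSeries k N N (n + 1) := fun u n z hz => by
    rw [LieModule.lowerCentralSeries_succ]
    exact LieSubmodule.lie_mem_lie (LieSubmodule.mem_top u) hz
  have hpow : ∀ (j n : ℕ), ∀ z ∈ LieModule.lowerCentralSeries k N N n,
      (Ax ^ (j + 1)) z ∈ LieModule.lowerCentralSeries k N N (n + 1) := by
    intro j
    induction j with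
    | zero => intro n z hz; rw [pow_one]; exact hlow _ n z hz
    | succ j ih =>
      intro n z hz
      rw [pow_succ', Module.End.mul_apply]
      exact LieModule.antitone_lowerCentralSeries k N N (Nat.le_succ _) (hlow _ _ _ (ih n z hz))
  obtain ⟨p', hp'⟩ : ∃ p', p = p' + 1 := ⟨p - 1, by have := (Fact.out : p.Prime).two_le; omega⟩
  have hTn : ∀ (n : ℕ) (z : N), (T ^ n) z ∈ LieModule.lowerCentralSeries k N N n := by
    intro n
    induction n with
    | zero => intro z; simp
    | succ n ih =>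
      intro z
      rw [pow_succ', Module.End.mul_apply]
      have h1 := ih z
      generalize (T ^ n) z = w at h1 ⊢
      simp only [T, LinearMap.add_apply, LinearMap.smul_apply]
      exact add_mem (hlow _ _ _ h1) (SMulMemClass.smul_mem r (by rw [hp']; exact hpow p' n _ h1))
  have hAx : ∀ (j : ℕ) (z : N), (((Ax ^ j) z : N) : L) = (LieAlgebra.ad k L x ^ j) (z : L) := fun j z => by
    induction j with
    | zero => rfl
    | succ j ih => rw [pow_succ', pow_succ', Module.End.mul_apply, Module.End.mul_apply, LieAlgebra.ad_apply, ← ih]; rfl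
  have hT : ∀ z : N, ((T z : N) : L) = ⁅a + r • φ x, (z : L)⁆ := fun z => by
    simp only [T, LinearMap.add_apply, LinearMap.smul_apply]
    rw [add_lie, smul_lie, ad_pow_apply]
    show ((LieAlgebra.ad k N ⟨a, ha⟩ z : N) : L) + r • (((Ax ^ p) z : N) : L) = _
    rw [hAx]
    rfl
  refine ⟨q + 1, LinearMap.ext fun z => Subtype.ext ?_⟩
  rw [pow_succ, Module.End.mul_apply]
  set M := LieAlgebra.ad k K' ⟨a + r • φ x, hm⟩
  have hz : ⁅a + r • φ x, (z : L)⁆ ∈ N := lie_adjoinPow_le φ N hx _ _ hm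
  have hkey : ∀ n : ℕ, (((M ^ n) (M z) : K') : L) = (((T ^ n) ⟨_, hz⟩ : N) : L) := by
    intro n
    induction n with
    | zero => rfl
    | succ n ih => rw [pow_succ', pow_succ', Module.End.mul_apply, Module.End.mul_apply, hT, ← ih]; rfl
  rw [hkey]
  have h0 := hTn q ⟨_, hz⟩
  rw [hq, LieSubmodule.mem_bot] at h0
  rw [h0]
  rfl

end Groth.Agent.RLie
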