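import Groth.Agent.RLie.Ideals

/-!
# The `p`-radical and the nilradical; orthogonal of a normalizer
-/

set_option autoImplicit false
noncomputable section

universe u v

open Finset

namespace Groth.Agent.RLie

variable {k : Type u} [Field k] {p : ℕ} [Fact p.Prime] [CharP k p]
  {L : Type v} [LieRing L] [LieAlgebra k L] [Module.Finite k L] (φ : PLie.PMap k p L)

omit [Module.Finite k L] in
theorem ad_iterate (x : L) (n : ℕ) : LieAlgebra.ad k L (φ.toFun^[n] x) = LieAlgebra.ad k L x ^ p ^ n := by
  induction n with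
  | zero => simp
  | succ n ih => rw [Function.iterate_succ_apply', φ.ad_map, ih, ← pow_mul, pow_succ]

theorem ad_nilpotent_of_mem (N : LieIdeal k L) [LieRing.IsNilpotent N] {x : L} (hx : x ∈ N) :
    IsNilpotent (LieAlgebra.ad k L x) := by
  haveI : Module.Finite k N := inferInstanceAs (Module.Finite k N.toSubmodule)
  obtain ⟨n, hn⟩ := (LieAlgebra.isNilpotent_iff_forall (R := k)).1 ‹LieRing.IsNilpotent N› ⟨x, hx⟩
  refine ⟨n + 1, LinearMap.ext fun z => ?_⟩
  rw [pow_succ, Module.End.mul_apply]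
  have hres : ∀ (j : ℕ) (w : N), ((((LieAlgebra.ad k N ⟨x, hx⟩) ^ j) w : N) : L) = (LieAlgebra.ad k L x ^ j) (w : L) :=
    fun j w => by
      induction j with
      | zero => rfl
      | succ j ih =>
        rw [pow_succ', pow_succ', Module.End.mul_apply, Module.End.mul_apply, LieAlgebra.ad_apply, LieAlgebra.ad_apply,
          ← ih]
        rfl
  have := hres n ⟨⁅x, z⁆, lie_mem_left k L N x z hx⟩
  rw [hn] at this
  exact this.symm

theorem nilradical_eq_iff (N : LieIdeal k L) (hN : LieRing.IsNilpotent N)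
    (hNmax : ∀ I : LieIdeal k L, LieRing.IsNilpotent I → I ≤ N)
    (P : LieIdeal k L) (hPnil : ∀ x ∈ P, PLie.IsPNilpotent φ x)
    (hPmax : ∀ J : LieIdeal k L, (∀ x ∈ J, φ x ∈ J) → (∀ x ∈ J, PLie.IsPNilpotent φ x) → J ≤ P) :
    N = P ↔ LieAlgebra.center k L ≤ P := by
  constructor
  · rintro rfl
    refine hNmax _ ?_
    haveI : IsLieAbelian (LieAlgebra.center k L) := inferInstance
    infer_instance
  · intro hc
    refine le_antisymm (hPmax N (fun x hx => nilradical_stable φ N hNmax hx) fun x hx => ?_)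
      (hNmax P (isNilpotent_of_pNilpotent φ P hPnil))
    obtain ⟨m, hm⟩ := ad_nilpotent_of_mem N hx
    have hcen : φ.toFun^[m] x ∈ LieAlgebra.center k L := by
      rw [LieModule.mem_maxTrivSubmodule]
      intro z
      have h0 : LieAlgebra.ad k L (φ.toFun^[m] x) = 0 := by
        rw [ad_iterate]
        exact pow_eq_zero_of_le (Nat.lt_pow_self (Fact.out : p.Prime).one_lt).le hm
      have := LinearMap.congr_fun h0 z
      rw [LieAlgebra.ad_apply, LinearMap.zero_apply] at this
      rw [← lie_skew, this, neg_zero]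
    obtain ⟨j, hj⟩ := hPnil _ (hc hcen)
    exact ⟨j + m, by rw [Function.iterate_add_apply]; exact hj⟩

theorem killing_orthogonal (hκ : (killingForm k L).Nondegenerate) (U H : LieSubalgebra k L) (hH : H = U.normalizer)
    (hnil : ∀ x ∈ U, PLie.IsPNilpotent φ x)
    (hperp : ∀ a b : L, (∀ y ∈ U, killingForm k L a y = 0) → (∀ y ∈ U, killingForm k L b y = 0) →
      ∀ y ∈ U, killingForm k L ⁅a, b⁆ y = 0) :
    ∀ x : L, x ∈ U ↔ ∀ h ∈ H, killingForm k L h x = 0 := by
  classical
  set κ := killingForm k L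
  have hrefl : κ.IsRefl := fun a b h => (LieModule.traceForm_comm k L L b a).trans h
  haveI : LieModule.IsNilpotent U L := by
    refine (LieModule.isNilpotent_iff_forall' (R := k)).2 fun u => ?_
    obtain ⟨n, hn⟩ := hnil u.1 u.2
    refine ⟨p ^ n, ?_⟩
    show LieAlgebra.ad k L (u : L) ^ p ^ n = 0
    rw [← ad_iterate φ, hn, map_zero]
  have hnorm : ∀ h ∈ H, ∀ u ∈ U, ⁅h, u⁆ ∈ U := fun h hh u hu => (U.mem_normalizer_iff h).1 (hH ▸ hh) u hu
  have hstab : ∀ (n : ℕ), ∀ h ∈ H, ∀ z ∈ LieModule.lowerCentralSeries k U L n,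
      ⁅h, z⁆ ∈ LieModule.lowerCentralSeries k U L n := by
    intro n
    induction n with
    | zero => intro h _ z _; simp
    | succ n ih =>
      intro h hh z hz
      rw [LieModule.lowerCentralSeries_succ] at hz ⊢
      rw [← LieSubmodule.mem_toSubmodule, LieSubmodule.lieIdeal_oper_eq_linear_span'] at hz
      induction hz using Submodule.span_induction with
      | mem y hy =>
        obtain ⟨u, -, m, hm, rfl⟩ := hy
        rw [show ⁅h, ⁅u, m⁆⁆ = ⁅(⟨⁅h, (u : L)⁆, hnorm h hh u u.2⟩ : U), m⁆ + ⁅u, ⁅h, m⁆⁆ from leibniz_lie h (u : L) m]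
        exact add_mem (LieSubmodule.lie_mem_lie (LieSubmodule.mem_top _) hm)
          (LieSubmodule.lie_mem_lie (LieSubmodule.mem_top _) (ih h hh m hm))
      | zero => rw [lie_zero]; exact zero_mem _
      | add a b _ _ ha hb => rw [lie_add]; exact add_mem ha hb
      | smul r a _ ha => rw [lie_smul]; exact SMulMemClass.smul_mem r ha
  obtain ⟨q, hq⟩ := LieModule.IsNilpotent.nilpotent k U L
  have hUH : ∀ u ∈ U, ∀ h ∈ H, κ h u = 0 := by
    intro u hu h hh
    show LieModule.traceForm k L L h u = 0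
    rw [LieModule.traceForm_apply_apply]
    refine (LinearMap.isNilpotent_trace_of_isNilpotent ⟨q, LinearMap.ext fun z => ?_⟩).eq_zero
    have hlow : ∀ n, ∀ z : L, (((LieModule.toEnd k L L h) ∘ₗ (LieModule.toEnd k L L u)) ^ n) z ∈
        LieModule.lowerCentralSeries k U L n := by
      intro n
      induction n with
      | zero => intro z; simp
      | succ n ih =>
        intro z
        rw [pow_succ', Module.End.mul_apply, LinearMap.comp_apply]
        refine hstab _ h hh _ ?_
        rw [LieModule.lowerCentralSeries_succ]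
        exact LieSubmodule.lie_mem_lie (LieSubmodule.mem_top (⟨u, hu⟩ : U)) (ih z)
    have := hlow q z
    rwa [hq, LieSubmodule.mem_bot] at this
  intro x
  refine ⟨fun hx h hh => hUH x hx h hh, fun hx => ?_⟩
  have hmem : x ∈ κ.orthogonal (κ.orthogonal U.toSubmodule) := by
    intro a ha
    refine hx a ?_
    rw [hH, U.mem_normalizer_iff]
    intro u hu
    show ⁅a, u⁆ ∈ U.toSubmodule
    rw [← LinearMap.BilinForm.orthogonal_orthogonal hκ hrefl U.toSubmodule]
    intro b hb
    have h1 := hperp b a (fun y hy => hrefl _ _ (hb y hy)) (fun y hy => hrefl _ _ (ha y hy)) u hu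
    show κ b ⁅a, u⁆ = 0
    rw [← LieModule.traceForm_apply_lie_apply k L L b a u]
    exact h1
  rwa [LinearMap.BilinForm.orthogonal_orthogonal hκ hrefl] at hmem

end Groth.Agent.RLie
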