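import Groth.Agent.RLie.Free

/-!
# Jacobson's theorem: `p`-maps from their values on a basis
-/

set_option autoImplicit false
noncomputable section

universe u v w

open Finset

namespace Groth.Agent.RLie

variable (R : Type u) [CommRing R] (p : ℕ) [Fact p.Prime] [CharP R p]
variable (L : Type v) [LieRing L] [LieAlgebra R L]

/-- The extension of `L` by `L` along Jacobson's sum. -/
@[ext]
structure Ext (R : Type u) (p : ℕ) (L : Type v) where
  /-- the element -/
  fst : L
  /-- its symbolic power -/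
  snd : L

variable {R p L}

instance : Add (Ext R p L) := ⟨fun x y => ⟨x.fst + y.fst, x.snd + y.snd - PLie.jacobson R p x.fst y.fst⟩⟩
instance : Zero (Ext R p L) := ⟨⟨0, 0⟩⟩
instance : Neg (Ext R p L) := ⟨fun x => ⟨-x.fst, -x.snd + PLie.jacobson R p x.fst (-x.fst)⟩⟩
instance : SMul R (Ext R p L) := ⟨fun c x => ⟨c • x.fst, c ^ p • x.snd⟩⟩

theorem Ext.add_fst (x y : Ext R p L) : (x + y).fst = x.fst + y.fst := rfl
theorem Ext.add_snd (x y : Ext R p L) :
    (x + y).snd = x.snd + y.snd - PLie.jacobson R p x.fst y.fst := rfl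
theorem Ext.zero_fst : (0 : Ext R p L).fst = 0 := rfl
theorem Ext.zero_snd : (0 : Ext R p L).snd = 0 := rfl
theorem Ext.neg_fst (x : Ext R p L) : (-x).fst = -x.fst := rfl
theorem Ext.neg_snd (x : Ext R p L) : (-x).snd = -x.snd + PLie.jacobson R p x.fst (-x.fst) := rfl
theorem Ext.smul_fst (c : R) (x : Ext R p L) : (c • x).fst = c • x.fst := rfl
theorem Ext.smul_snd (c : R) (x : Ext R p L) : (c • x).snd = c ^ p • x.snd := rfl

instance : AddCommGroup (Ext R p L) where
  add_assoc x y z := Ext.ext (add_assoc _ _ _) (by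
    simp only [Ext.add_fst, Ext.add_snd]
    linear_combination (norm := abel) -(jacobson_assoc p (R := R) x.fst y.fst z.fst))
  zero_add x := Ext.ext (zero_add _) (by simp [Ext.add_snd, Ext.zero_fst, Ext.zero_snd, jacobson_zero_left])
  add_zero x := Ext.ext (add_zero _) (by simp [Ext.add_snd, Ext.zero_fst, Ext.zero_snd, jacobson_zero_right])
  add_comm x y := Ext.ext (add_comm _ _) (by
    simp only [Ext.add_snd, jacobson_comm p x.fst y.fst]; abel)
  neg_add_cancel x := Ext.ext (neg_add_cancel _) (by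
    simp only [Ext.add_snd, Ext.neg_fst, Ext.neg_snd, Ext.zero_snd, jacobson_comm p (-x.fst) x.fst]; abel)
  nsmul := nsmulRec
  zsmul := zsmulRec

instance : Module R (Ext R p L) where
  one_smul x := Ext.ext (one_smul _ _) (by simp [Ext.smul_snd])
  mul_smul c d x := Ext.ext (mul_smul _ _ _) (by simp [Ext.smul_snd, smul_smul, mul_pow])
  smul_zero c := Ext.ext (smul_zero _) (by simp [Ext.smul_snd, Ext.zero_snd])
  smul_add c x y := Ext.ext (smul_add _ _ _) (by
    simp only [Ext.smul_snd, Ext.smul_fst, Ext.add_snd, jacobson_smul, smul_add, smul_sub])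
  add_smul c d x := Ext.ext (add_smul _ _ _) (by
    haveI : Fact (0 < p) := ⟨(Fact.out : p.Prime).pos⟩
    simp only [Ext.smul_snd, Ext.smul_fst, Ext.add_snd, jacobson_smul_self, sub_zero, add_pow_char, add_smul])
  zero_smul x := Ext.ext (zero_smul _ _) (by
    simp [Ext.smul_snd, Ext.zero_snd, zero_pow (Fact.out : p.Prime).ne_zero])

theorem ext_pmap {φ ψ : PLie.PMap R p L} (h : ∀ x, φ x = ψ x) : φ = ψ := by
  obtain ⟨f, _, _, _⟩ := φ
  obtain ⟨g, _, _, _⟩ := ψ
  obtain rfl : f = g := funext h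
  rfl

theorem pmap_zero (φ : PLie.PMap R p L) : φ 0 = 0 := by
  have := φ.map_smul 0 0
  rwa [zero_smul, zero_pow (Fact.out : p.Prime).ne_zero, zero_smul] at this

theorem ad_pow_apply (φ : PLie.PMap R p L) (x z : L) : ⁅φ x, z⁆ = (LieAlgebra.ad R L x ^ p) z := by
  rw [← φ.ad_map, LieAlgebra.ad_apply]

theorem pmap_eq_of_span (φ ψ : PLie.PMap R p L) {s : Set L} (hs : Submodule.span R s = ⊤)
    (h : ∀ x ∈ s, φ x = ψ x) : φ = ψ := by
  refine ext_pmap fun x => ?_
  have hx : x ∈ Submodule.span R s := hs ▸ trivial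
  induction hx using Submodule.span_induction with
  | mem y hy => exact h y hy
  | zero => rw [pmap_zero, pmap_zero]
  | add a c _ _ ha hc => rw [φ.map_add, ψ.map_add, ha, hc]
  | smul r a _ ha => rw [φ.map_smul, ψ.map_smul, ha]

/-- Jacobson's theorem. -/
theorem existsUnique_pmap {ι : Type w} (b : Module.Basis ι R L) (y : ι → L)
    (hy : ∀ i, LieAlgebra.ad R L (b i) ^ p = LieAlgebra.ad R L (y i)) :
    ∃! φ : PLie.PMap R p L, ∀ i, φ (b i) = y i := by
  let s : L →ₗ[R] Ext R p L := b.constr ℕ fun i => ⟨b i, y i⟩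
  have hs : ∀ i, s (b i) = ⟨b i, y i⟩ := fun i => b.constr_basis ℕ _ i
  have hfst : ∀ x, (s x).fst = x := fun x => by
    induction b.mem_span x using Submodule.span_induction with
    | mem z hz => obtain ⟨i, rfl⟩ := hz; rw [hs]
    | zero => rw [map_zero]; rfl
    | add a c _ _ ha hc => rw [map_add, Ext.add_fst, ha, hc]
    | smul r a _ ha => rw [map_smul, Ext.smul_fst, ha]
  have had : ∀ x, LieAlgebra.ad R L (s x).snd = LieAlgebra.ad R L x ^ p := fun x => by
    induction b.mem_span x using Submodule.span_induction with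
    | mem z hz => obtain ⟨i, rfl⟩ := hz; rw [hs, hy]
    | zero => rw [map_zero, Ext.zero_snd, map_zero, zero_pow (Fact.out : p.Prime).ne_zero]
    | add a c _ _ ha hc =>
      rw [map_add, Ext.add_snd, map_sub, map_add, ha, hc, hfst, hfst, ad_jacobson]; abel
    | smul r a _ ha => rw [map_smul, Ext.smul_snd, map_smul, map_smul, ha, smul_pow]
  refine ⟨⟨fun x => (s x).snd, fun c x => by rw [map_smul, Ext.smul_snd], had,
    fun a c => by rw [map_add, Ext.add_snd, hfst, hfst]⟩, fun i => by show (s (b i)).snd = _; rw [hs], ?_⟩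
  intro ψ hψ
  refine pmap_eq_of_span ψ _ b.span_eq ?_
  rintro _ ⟨i, rfl⟩
  show ψ (b i) = (s (b i)).snd
  rw [hψ, hs]

theorem nonempty_pmap_iff {ι : Type w} (b : Module.Basis ι R L) :
    Nonempty (PLie.PMap R p L) ↔ ∀ i, ∃ y, LieAlgebra.ad R L (b i) ^ p = LieAlgebra.ad R L y := by
  refine ⟨fun ⟨φ⟩ i => ⟨φ (b i), (φ.ad_map _).symm⟩, fun h => ?_⟩
  choose y hy using h
  exact ⟨(existsUnique_pmap b y hy).exists.choose⟩

theorem ad_pow_rankOne (v : L) (f : L →ₗ[R] L →ₗ[R] R) (hf : ∀ x y : L, ⁅x, y⁆ = f x y • v) (x : L) :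
    LieAlgebra.ad R L x ^ p = LieAlgebra.ad R L (f x v ^ (p - 1) • x) := by
  have key : ∀ n : ℕ, LieAlgebra.ad R L x ^ (n + 1) = f x v ^ n • LieAlgebra.ad R L x := by
    intro n
    induction n with
    | zero => simp
    | succ n ih =>
      rw [pow_succ, ih, smul_mul_assoc]
      refine LinearMap.ext fun z => ?_
      simp [Module.End.mul_apply, hf, smul_smul]
      ring_nf
  rw [map_smul, ← key, Nat.sub_add_cancel (Fact.out : p.Prime).one_le]

theorem exists_image_pmap {L₂ : Type w} [LieRing L₂] [LieAlgebra R L₂] (φ : PLie.PMap R p L) (f : L →ₗ⁅R⁆ L₂)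
    (hker : ∀ x : L, f x = 0 → f (φ x) = 0) :
    ∃! ψ : PLie.PMap R p f.range, PLie.IsPHom φ ψ f.rangeRestrict := by
  set g := f.rangeRestrict
  have hsurj : Function.Surjective g := f.surjective_rangeRestrict
  have hwd : ∀ x x', g x = g x' → g (φ x) = g (φ x') := by
    intro x x' h
    have hk : g (x' - x) = 0 := by rw [map_sub, h, sub_self]
    have hk' : g (φ (x' - x)) = 0 := Subtype.ext (hker _ (congrArg Subtype.val hk))
    have := congrArg g (φ.map_add x (x' - x))
    rw [add_sub_cancel, map_sub, map_add, hk', map_jacobson p g, hk, jacobson_zero_right, add_zero, sub_zero] at this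
    exact this.symm
  choose s hs using hsurj
  have hval : ∀ x, g (φ (s (g x))) = g (φ x) := fun x => hwd _ _ (hs _)
  refine ⟨⟨fun z => g (φ (s z)), fun c z => ?_, fun z => ?_, fun z z' => ?_⟩, fun x => (hval x).symm, ?_⟩
  · rw [← map_smul, ← φ.map_smul]
    exact hwd _ _ (by rw [hs, map_smul, hs])
  · have key : ∀ x (n : ℕ) w, (LieAlgebra.ad R f.range (g x) ^ n) (g w) = g ((LieAlgebra.ad R L x ^ n) w) := by
      intro x n
      induction n with
      | zero => intro w; simp
      | succ n ih => intro w; rw [pow_succ, pow_succ, Module.End.mul_apply, Module.End.mul_apply, LieAlgebra.ad_apply,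
          ← g.map_lie, ih, LieAlgebra.ad_apply]
    refine LinearMap.ext fun w => ?_
    conv_lhs => rw [← hs w]
    conv_rhs => rw [← hs w, ← hs z]
    rw [key, LieAlgebra.ad_apply, ← g.map_lie, ad_pow_apply]
  · conv_rhs => rw [← hs z, ← hs z', ← map_jacobson p g, hs z, hs z']
    rw [← map_add, ← map_sub, ← φ.map_add]
    exact hwd _ _ (by rw [hs, map_add, hs, hs])
  · intro ψ hψ
    refine ext_pmap fun z => ?_
    show ψ z = g (φ (s z))
    rw [hψ, hs]

theorem exists_add_iff (γ : PLie.PMap R p L) (g : L → L) :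
    (∃ γ' : PLie.PMap R p L, ∀ x : L, γ' x = γ x + g x) ↔
      ((∀ x y : L, g (x + y) = g x + g y) ∧ (∀ (c : R) (x : L), g (c • x) = c ^ p • g x) ∧
        ∀ x : L, g x ∈ LieAlgebra.center R L) := by
  constructor
  · rintro ⟨γ', h⟩
    have hg : ∀ x, g x = γ' x - γ x := fun x => by rw [h]; abel
    refine ⟨fun x y => ?_, fun c x => ?_, fun x => ?_⟩
    · rw [hg, hg, hg, γ'.map_add, γ.map_add]; abel
    · rw [hg, hg, γ'.map_smul, γ.map_smul, smul_sub]
    · rw [LieModule.mem_maxTrivSubmodule]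
      intro z
      rw [← lie_skew, hg, sub_lie, ad_pow_apply, ad_pow_apply, sub_self, neg_zero]
  · rintro ⟨h1, h2, h3⟩
    refine ⟨⟨fun x => γ x + g x, fun c x => ?_, fun x => ?_, fun x y => ?_⟩, fun x => rfl⟩
    · rw [γ.map_smul, h2, smul_add]
    · rw [map_add, γ.ad_map, add_eq_left]
      refine LinearMap.ext fun z => ?_
      rw [LieAlgebra.ad_apply, LinearMap.zero_apply, ← lie_skew, (LieModule.mem_maxTrivSubmodule _ _ _ _).1 (h3 x) z,
        neg_zero]
    · rw [γ.map_add, h1]; abel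

theorem map_pmap_of_center {L' : Type w} [LieRing L'] [LieAlgebra R L'] (γ : PLie.PMap R p L) (f : L →ₗ⁅R⁆ L')
    (hf : Function.Surjective f) (hZ : LieAlgebra.center R L' = ⊥) (x : L) (z : L')
    (hz : ∀ w, ⁅z, w⁆ = (LieAlgebra.ad R L' (f x) ^ p) w) : f (γ x) = z := by
  have key : ∀ (n : ℕ) w, f ((LieAlgebra.ad R L x ^ n) w) = (LieAlgebra.ad R L' (f x) ^ n) (f w) := by
    intro n
    induction n with
    | zero => intro w; simp
    | succ n ih => intro w; rw [pow_succ, pow_succ, Module.End.mul_apply, Module.End.mul_apply, ih, LieAlgebra.ad_apply,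
        LieAlgebra.ad_apply, f.map_lie]
  have hmem : f (γ x) - z ∈ LieAlgebra.center R L' := by
    rw [LieModule.mem_maxTrivSubmodule]
    intro w
    obtain ⟨w, rfl⟩ := hf w
    rw [← lie_skew, sub_lie, ← f.map_lie, ad_pow_apply, key, hz, sub_self, neg_zero]
  rw [hZ, LieSubmodule.mem_bot, sub_eq_zero] at hmem
  exact hmem

end Groth.Agent.RLie
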