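import Groth.Agent.RLie.PMap

/-!
# `p`-maps on three-dimensional Lie algebras
-/

set_option autoImplicit false
noncomputable section

universe u v w

open Finset
open DualNumber TrivSqZeroExt

namespace Groth.Agent.RLie

section Gen

variable {R : Type u} [CommRing R] {L : Type v} [LieRing L] [LieAlgebra R L] (bs : Module.Basis (Fin 3) R L)

/-- The vector with given coordinates. -/
def vec (α β γ : R) : L := α • bs 0 + β • bs 1 + γ • bs 2

theorem exists_vec (x : L) : ∃ α β γ, x = vec bs α β γ :=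
  ⟨bs.repr x 0, bs.repr x 1, bs.repr x 2, (bs.sum_repr x).symm.trans (Fin.sum_univ_three _)⟩

theorem vec_ext {α β γ α' β' γ' : R} (h : vec bs α β γ = vec bs α' β' γ') : α = α' ∧ β = β' ∧ γ = γ' := by
  have h0 := congrArg (fun z => bs.repr z 0) h
  have h1 := congrArg (fun z => bs.repr z 1) h
  have h2 := congrArg (fun z => bs.repr z 2) h
  simp [vec, Finsupp.single_apply] at h0 h1 h2
  exact ⟨h0, h1, h2⟩

/-- Structure constants as a bracket formula. -/
theorem vec_lie {A B C D E F G H I : R} (hxy : ⁅bs 0, bs 1⁆ = vec bs A B C) (hxz : ⁅bs 0, bs 2⁆ = vec bs D E F)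
    (hyz : ⁅bs 1, bs 2⁆ = vec bs G H I) (α β γ α' β' γ' : R) :
    ⁅vec bs α β γ, vec bs α' β' γ'⁆ =
      vec bs ((α * β' - β * α') * A + (α * γ' - γ * α') * D + (β * γ' - γ * β') * G)
        ((α * β' - β * α') * B + (α * γ' - γ * α') * E + (β * γ' - γ * β') * H)
        ((α * β' - β * α') * C + (α * γ' - γ * α') * F + (β * γ' - γ * β') * I) := by
  have hyx : ⁅bs 1, bs 0⁆ = -vec bs A B C := by rw [← lie_skew, hxy]
  have hzx : ⁅bs 2, bs 0⁆ = -vec bs D E F := by rw [← lie_skew, hxz]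
  have hzy : ⁅bs 2, bs 1⁆ = -vec bs G H I := by rw [← lie_skew, hyz]
  simp only [vec] at hxy hxz hyz hyx hzx hzy ⊢
  simp only [add_lie, lie_add, smul_lie, lie_smul, lie_self, hxy, hxz, hyz, hyx, hzx, hzy, smul_zero, add_zero,
    zero_add]
  module

theorem vec_add (α β γ α' β' γ' : R) : vec bs α β γ + vec bs α' β' γ' = vec bs (α + α') (β + β') (γ + γ') := by
  simp only [vec]; module

theorem vec_zero : vec bs (0 : R) 0 0 = 0 := by simp [vec]

theorem vec_neg (α β γ : R) : -vec bs α β γ = vec bs (-α) (-β) (-γ) := by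
  simp only [vec]; module

theorem lie_basis {A B C D E F G H I : R} (hxy : ⁅bs 0, bs 1⁆ = vec bs A B C) (hxz : ⁅bs 0, bs 2⁆ = vec bs D E F)
    (hyz : ⁅bs 1, bs 2⁆ = vec bs G H I) (α β γ : R) :
    ⁅bs 0, vec bs α β γ⁆ = vec bs (β * A + γ * D) (β * B + γ * E) (β * C + γ * F) ∧
    ⁅bs 1, vec bs α β γ⁆ = vec bs (-α * A + γ * G) (-α * B + γ * H) (-α * C + γ * I) ∧
    ⁅bs 2, vec bs α β γ⁆ = vec bs (-α * D - β * G) (-α * E - β * H) (-α * F - β * I) := by
  have e0 : bs 0 = vec bs 1 0 0 := by simp [vec]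
  have e1 : bs 1 = vec bs 0 1 0 := by simp [vec]
  have e2 : bs 2 = vec bs 0 0 1 := by simp [vec]
  refine ⟨?_, ?_, ?_⟩
  · rw [e0, vec_lie bs hxy hxz hyz]; congr 1 <;> ring
  · rw [e1, vec_lie bs hxy hxz hyz]; congr 1 <;> ring
  · rw [e2, vec_lie bs hxy hxz hyz]; congr 1 <;> ring

theorem jacobi_eqs {A B C D E F G H I : R} (hxy : ⁅bs 0, bs 1⁆ = vec bs A B C) (hxz : ⁅bs 0, bs 2⁆ = vec bs D E F)
    (hyz : ⁅bs 1, bs 2⁆ = vec bs G H I) :
    H * A + I * D + (D * A - F * G) - A * D - B * G = 0 ∧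
    H * B + I * E + (D * B - F * H) - A * E - B * H = 0 ∧
    H * C + I * F + (D * C - F * I) - A * F - B * I = 0 := by
  have h := lie_jacobi (bs 0) (bs 1) (bs 2)
  rw [hyz, hxy, ← lie_skew (bs 2) (bs 0), hxz, lie_neg, (lie_basis bs hxy hxz hyz _ _ _).1,
    (lie_basis bs hxy hxz hyz _ _ _).2.1, (lie_basis bs hxy hxz hyz _ _ _).2.2, vec_neg, vec_add, vec_add,
    show (0 : L) = vec bs 0 0 0 by simp [vec]] at h
  obtain ⟨h0, h1, h2⟩ := vec_ext bs h
  exact ⟨by linear_combination h0, by linear_combination h1, by linear_combination h2⟩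

theorem basis_vec : bs 0 = vec bs 1 0 0 ∧ bs 1 = vec bs 0 1 0 ∧ bs 2 = vec bs 0 0 1 := by simp [vec]

variable (p : ℕ) [Fact p.Prime] [CharP R p]

theorem no_pmap_jordan (hxy : ⁅bs 0, bs 1⁆ = bs 1) (hxz : ⁅bs 0, bs 2⁆ = bs 1 + bs 2) (hyz : ⁅bs 1, bs 2⁆ = 0) :
    IsEmpty (PLie.PMap R p L) := by
  refine ⟨fun φ => ?_⟩
  obtain ⟨α, β, γ, hφ⟩ := exists_vec bs (φ (bs 0))
  have hxy' : ⁅bs 0, bs 1⁆ = vec bs 0 1 0 := by rw [hxy]; simp [vec]
  have hxz' : ⁅bs 0, bs 2⁆ = vec bs 0 1 1 := by rw [hxz]; simp [vec]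
  have hyz' : ⁅bs 1, bs 2⁆ = vec bs 0 0 0 := by rw [hyz]; simp [vec]
  have key : ∀ n : ℕ, (LieAlgebra.ad R L (bs 0) ^ n) (bs 2) = vec bs 0 (n : R) 1 := by
    intro n
    induction n with
    | zero => simp [vec]
    | succ n ih =>
      rw [pow_succ', Module.End.mul_apply, ih, LieAlgebra.ad_apply, (basis_vec bs).1, vec_lie bs hxy' hxz' hyz']
      congr 1 <;> simp
  have h1 : (LieAlgebra.ad R L (bs 0) ^ p) (bs 1) = bs 1 := by
    have : ∀ n : ℕ, (LieAlgebra.ad R L (bs 0) ^ n) (bs 1) = bs 1 := by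
      intro n
      induction n with
      | zero => rfl
      | succ n ih => rw [pow_succ', Module.End.mul_apply, ih, LieAlgebra.ad_apply, hxy]
    exact this p
  have e1 := ad_pow_apply φ (bs 0) (bs 1)
  have e2 := ad_pow_apply φ (bs 0) (bs 2)
  rw [h1, hφ, (basis_vec bs).2.1, vec_lie bs hxy' hxz' hyz'] at e1
  rw [key, hφ, (basis_vec bs).2.2, vec_lie bs hxy' hxz' hyz'] at e2
  obtain ⟨-, e1, -⟩ := vec_ext bs e1
  obtain ⟨-, e2, -⟩ := vec_ext bs e2
  simp only [CharP.cast_eq_zero] at e1 e2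
  haveI : Nontrivial R := CharP.nontrivial_of_char_ne_one (R := R) (Fact.out : p.Prime).ne_one
  exact one_ne_zero (show (1 : R) = 0 by linear_combination e2 - e1)

theorem pmap_diag_iff (t : R) (hxy : ⁅bs 0, bs 1⁆ = bs 1) (hxz : ⁅bs 0, bs 2⁆ = t • bs 2)
    (hyz : ⁅bs 1, bs 2⁆ = 0) : Nonempty (PLie.PMap R p L) ↔ t ^ p = t := by
  have hxy' : ⁅bs 0, bs 1⁆ = vec bs 0 1 0 := by rw [hxy]; simp [vec]
  have hxz' : ⁅bs 0, bs 2⁆ = vec bs 0 0 t := by rw [hxz]; simp [vec]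
  have hyz' : ⁅bs 1, bs 2⁆ = vec bs 0 0 0 := by rw [hyz]; simp [vec]
  have hp := (Fact.out : p.Prime)
  have key : ∀ n : ℕ, (LieAlgebra.ad R L (bs 0) ^ (n + 1)) (bs 0) = vec bs 0 0 0 ∧
      (LieAlgebra.ad R L (bs 0) ^ (n + 1)) (bs 1) = vec bs 0 1 0 ∧
      (LieAlgebra.ad R L (bs 0) ^ (n + 1)) (bs 2) = vec bs 0 0 (t ^ (n + 1)) := by
    intro n
    induction n with
    | zero => simp [hxy', hxz', vec]
    | succ n ih =>
      simp only [pow_succ' (LieAlgebra.ad R L (bs 0)) (n + 1), Module.End.mul_apply, ih, LieAlgebra.ad_apply]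
      refine ⟨?_, ?_, ?_⟩ <;> rw [(basis_vec bs).1, vec_lie bs hxy' hxz' hyz'] <;> congr 1 <;> ring
  obtain ⟨n, hn⟩ : ∃ n, p = n + 1 := ⟨p - 1, by have := hp.two_le; omega⟩
  obtain ⟨k0, k1, k2⟩ := key n
  rw [← hn] at k0 k1 k2
  constructor
  · rintro ⟨φ⟩
    obtain ⟨α, β, γ, hφ⟩ := exists_vec bs (φ (bs 0))
    have e1 := ad_pow_apply φ (bs 0) (bs 1)
    have e2 := ad_pow_apply φ (bs 0) (bs 2)
    rw [k1, hφ, (basis_vec bs).2.1, vec_lie bs hxy' hxz' hyz'] at e1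
    rw [k2, hφ, (basis_vec bs).2.2, vec_lie bs hxy' hxz' hyz'] at e2
    obtain ⟨-, e1, -⟩ := vec_ext bs e1
    obtain ⟨-, -, e2⟩ := vec_ext bs e2
    linear_combination t * e1 - e2
  · intro ht
    refine (nonempty_pmap_iff bs).2 fun i => ?_
    have hsq : ∀ j : Fin 3, j ≠ 0 → LieAlgebra.ad R L (bs j) ^ p = LieAlgebra.ad R L 0 := by
      intro j hj
      rw [map_zero]
      refine pow_eq_zero_of_le hp.two_le (bs.ext fun l => ?_)
      simp only [pow_two, Module.End.mul_apply, LieAlgebra.ad_apply, LinearMap.zero_apply]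
      fin_cases j <;> first
        | exact absurd rfl hj
        | (fin_cases l <;>
            simp only [Fin.zero_eta, Fin.mk_one, Fin.reduceFinMk, (basis_vec bs).1, (basis_vec bs).2.1, (basis_vec bs).2.2,
              vec_lie bs hxy' hxz' hyz'] <;>
            simp [vec])
    fin_cases i
    · refine ⟨bs 0, bs.ext fun l => ?_⟩
      fin_cases l
      · show (LieAlgebra.ad R L (bs 0) ^ p) (bs 0) = ⁅bs 0, bs 0⁆
        rw [k0, lie_self]; simp [vec]
      · show (LieAlgebra.ad R L (bs 0) ^ p) (bs 1) = ⁅bs 0, bs 1⁆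
        rw [k1, hxy']
      · show (LieAlgebra.ad R L (bs 0) ^ p) (bs 2) = ⁅bs 0, bs 2⁆
        rw [k2, hxz', ht]
    · exact ⟨0, hsq 1 (by decide)⟩
    · exact ⟨0, hsq 2 (by decide)⟩

theorem exists_pmap_nil (hp2 : p ≠ 2) (t : R) (hxy : ⁅bs 0, bs 1⁆ = bs 2) (hxz : ⁅bs 0, bs 2⁆ = t • bs 1)
    (hyz : ⁅bs 1, bs 2⁆ = 0) :
    ∃ φ : PLie.PMap R p L, φ (bs 0) = t ^ ((p - 1) / 2) • bs 0 ∧ φ (bs 1) = 0 ∧ φ (bs 2) = 0 := by
  have hxy' : ⁅bs 0, bs 1⁆ = vec bs 0 0 1 := by rw [hxy]; simp [vec]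
  have hxz' : ⁅bs 0, bs 2⁆ = vec bs 0 t 0 := by rw [hxz]; simp [vec]
  have hyz' : ⁅bs 1, bs 2⁆ = vec bs 0 0 0 := by rw [hyz]; simp [vec]
  have hp := (Fact.out : p.Prime)
  obtain ⟨h, hh⟩ := hp.odd_of_ne_two hp2
  have key : ∀ h : ℕ, LieAlgebra.ad R L (bs 0) ^ (2 * h + 1) = t ^ h • LieAlgebra.ad R L (bs 0) := by
    intro h
    induction h with
    | zero => simp
    | succ h ih =>
      refine bs.ext fun l => ?_
      rw [show 2 * (h + 1) + 1 = 2 + (2 * h + 1) by ring, pow_add, ih, Module.End.mul_apply, pow_two,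
        Module.End.mul_apply]
      fin_cases l <;>
        simp only [Fin.zero_eta, Fin.mk_one, Fin.reduceFinMk, LinearMap.smul_apply, map_smul, LieAlgebra.ad_apply,
          lie_smul, (basis_vec bs).1, (basis_vec bs).2.1, (basis_vec bs).2.2, vec_lie bs hxy' hxz' hyz'] <;>
        simp [vec, smul_smul, pow_succ, mul_assoc]
  have h1 : LieAlgebra.ad R L (bs 0) ^ p = LieAlgebra.ad R L (t ^ ((p - 1) / 2) • bs 0) := by
    rw [map_smul, show (p - 1) / 2 = h by omega, hh, key]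
  have h2 : ∀ j : Fin 3, j ≠ 0 → LieAlgebra.ad R L (bs j) ^ p = LieAlgebra.ad R L 0 := by
    intro j hj
    rw [map_zero]
    refine pow_eq_zero_of_le hp.two_le (bs.ext fun l => ?_)
    simp only [pow_two, Module.End.mul_apply, LieAlgebra.ad_apply, LinearMap.zero_apply]
    fin_cases j <;> first
      | exact absurd rfl hj
      | (fin_cases l <;>
          simp only [Fin.zero_eta, Fin.mk_one, Fin.reduceFinMk, (basis_vec bs).1, (basis_vec bs).2.1, (basis_vec bs).2.2,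
            vec_lie bs hxy' hxz' hyz'] <;>
          simp [vec])
  obtain ⟨φ, hφ, -⟩ := existsUnique_pmap bs ![t ^ ((p - 1) / 2) • bs 0, 0, 0] fun i => by
    fin_cases i
    · exact h1
    · exact h2 1 (by decide)
    · exact h2 2 (by decide)
  exact ⟨φ, hφ 0, hφ 1, hφ 2⟩

end Gen

theorem no_pmap_two {R : Type u} [CommRing R] [CharP R 2] {L : Type v} [LieRing L] [LieAlgebra R L]
    (bs : Module.Basis (Fin 3) R L) (hxy : ⁅bs 0, bs 1⁆ = bs 2) (hxz : ⁅bs 0, bs 2⁆ = -bs 0)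
    (hyz : ⁅bs 1, bs 2⁆ = bs 1) : IsEmpty (PLie.PMap R 2 L) := by
  refine ⟨fun φ => ?_⟩
  have hxy' : ⁅bs 0, bs 1⁆ = vec bs 0 0 1 := by rw [hxy]; simp [vec]
  have hxz' : ⁅bs 0, bs 2⁆ = vec bs (-1) 0 0 := by rw [hxz]; simp [vec]
  have hyz' : ⁅bs 1, bs 2⁆ = vec bs 0 1 0 := by rw [hyz]; simp [vec]
  obtain ⟨α, β, γ, hφ⟩ := exists_vec bs (φ (bs 0))
  haveI : Fact (Nat.Prime 2) := ⟨Nat.prime_two⟩
  have e1 := ad_pow_apply φ (bs 0) (bs 1)
  rw [pow_two, Module.End.mul_apply, LieAlgebra.ad_apply, LieAlgebra.ad_apply, hxy, hxz', hφ, (basis_vec bs).2.1,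
    vec_lie bs hxy' hxz' hyz'] at e1
  obtain ⟨e, -, -⟩ := vec_ext bs e1
  haveI : Nontrivial R := CharP.nontrivial_of_char_ne_one (R := R) (show 2 ≠ 1 by norm_num)
  exact one_ne_zero (show (1 : R) = 0 by linear_combination e)

section Dual

variable {K : Type u} [Field K] (p : ℕ) [Fact p.Prime] [CharP K p] [CharP (DualNumber K) p]
  {L : Type v} [LieRing L] [LieAlgebra (DualNumber K) L] (bs : Module.Basis (Fin 3) (DualNumber K) L)

local notation "D" => DualNumber K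

/-- `m u v = u + v ε`. -/
def m (u v : K) : D := inl u + inr v

@[simp] theorem fst_m (u v : K) : (m u v).fst = u := by simp [m]
@[simp] theorem snd_m (u v : K) : (m u v).snd = v := by simp [m]

theorem smul_eps (a : K) : (a • ε : D) = m 0 a := by
  apply TrivSqZeroExt.ext <;> simp

theorem deform_diag_iff (t a b c d e f g h i : K) (ht : t ^ p = t)
    (hxy : ⁅bs 0, bs 1⁆ = (a • ε : D) • bs 0 + (1 + b • ε : D) • bs 1 + (c • ε : D) • bs 2)
    (hxz : ⁅bs 0, bs 2⁆ = (d • ε : D) • bs 0 + (e • ε : D) • bs 1 + (algebraMap K D t + f • ε) • bs 2)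
    (hyz : ⁅bs 1, bs 2⁆ = (g • ε : D) • bs 0 + (h • ε : D) • bs 1 + (i • ε : D) • bs 2) :
    Nonempty (PLie.PMap D p L) ↔ (b * t = f ∧ (t = 1 → c = 0 ∧ e = 0) ∧ (p = 2 → g = 0)) := by
  have hxy' : ⁅bs 0, bs 1⁆ = vec bs (m 0 a) (m 1 b) (m 0 c) := by
    rw [hxy, vec]; congr 1; congr 1 <;> congr 1 <;> apply TrivSqZeroExt.ext <;> simp
    congr 1; apply TrivSqZeroExt.ext <;> simp
  have hxz' : ⁅bs 0, bs 2⁆ = vec bs (m 0 d) (m 0 e) (m t f) := by
    rw [hxz, vec]; congr 1; congr 1 <;> congr 1 <;> apply TrivSqZeroExt.ext <;> simp [TrivSqZeroExt.algebraMap_eq_inl]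
    congr 1; apply TrivSqZeroExt.ext <;> simp [TrivSqZeroExt.algebraMap_eq_inl]
  have hyz' : ⁅bs 1, bs 2⁆ = vec bs (m 0 g) (m 0 h) (m 0 i) := by
    rw [hyz, vec]; congr 1; congr 1 <;> congr 1 <;> apply TrivSqZeroExt.ext <;> simp
    congr 1; apply TrivSqZeroExt.ext <;> simp
  obtain ⟨b0, b1, b2⟩ := basis_vec bs
  have hp := (Fact.out : p.Prime)
  obtain ⟨hj0, hj1, -⟩ := jacobi_eqs bs hxy' hxz' hyz'
  have hj0' := congrArg TrivSqZeroExt.snd hj0
  have hj1' := congrArg TrivSqZeroExt.snd hj1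
  simp at hj0' hj1'
  have hd : d = t * h := by linear_combination hj1'
  have hg : t = 0 → g = 0 := fun ht0 => by subst ht0; linear_combination -hj0'
  set A0 := LieAlgebra.ad D L (bs 0) with hA0
  set A1 := LieAlgebra.ad D L (bs 1) with hA1
  set A2 := LieAlgebra.ad D L (bs 2) with hA2
  have key : ∀ n : ℕ, (A0 ^ (n + 1)) (bs 1) = vec bs (m 0 a) (m 1 ((n + 1) * b)) (m 0 ((∑ j ∈ range (n + 1), t ^ j) * c)) ∧
      (A0 ^ (n + 1)) (bs 2) =
        vec bs (m 0 (d * t ^ n)) (m 0 (e * ∑ j ∈ range (n + 1), t ^ j)) (m (t ^ (n + 1)) ((n + 1) * t ^ n * f)) := by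
    intro n
    induction n with
    | zero => simp [A0, hxy', hxz']
    | succ n ih =>
      simp only [pow_succ' A0 (n + 1), Module.End.mul_apply, ih]
      simp only [A0, LieAlgebra.ad_apply, (lie_basis bs hxy' hxz' hyz' _ _ _).1]
      have g1 : ∑ j ∈ range (n + 1 + 1), t ^ j = t * ∑ j ∈ range (n + 1), t ^ j + 1 := geom_sum_succ
      have g2 : ∑ j ∈ range (n + 1 + 1), t ^ j = ∑ j ∈ range (n + 1), t ^ j + t ^ (n + 1) := sum_range_succ _ _
      generalize ∑ j ∈ range (n + 1 + 1), t ^ j = T' at *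
      generalize ∑ j ∈ range (n + 1), t ^ j = T at *
      refine ⟨?_, ?_⟩ <;> congr 1 <;> apply TrivSqZeroExt.ext <;> simp <;> grind
  obtain ⟨n, hn⟩ : ∃ n, p = n + 1 := ⟨p - 1, by have := hp.two_le; omega⟩
  obtain ⟨k1, k2⟩ := key n
  rw [← hn] at k1 k2
  have k0 : (A0 ^ p) (bs 0) = 0 := by
    rw [hn, pow_succ, Module.End.mul_apply, LieAlgebra.ad_apply, lie_self, map_zero]
  have hp0 : ((n : K) + 1) = 0 := by
    have := CharP.cast_eq_zero K p
    rw [hn, Nat.cast_add, Nat.cast_one] at this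
    exact this
  set S := ∑ j ∈ range p, t ^ j with hS
  have hS1 : t = 1 → S = 0 := fun h1 => by simp [hS, h1]
  have hS2 : t ≠ 1 → S = 1 := fun h1 => by
    have := geom_sum_mul t p
    rw [ht] at this
    exact mul_right_cancel₀ (sub_ne_zero.2 h1) (by rw [this, one_mul])
  have hn1 : 1 ≤ n := by have := hp.two_le; omega
  have hdt : d * t ^ n = d := by
    by_cases ht0 : t = 0
    · rw [hd, ht0]; simp
    · have : t ^ n = 1 := mul_right_cancel₀ ht0 (by rw [← pow_succ, ← hn, ht, one_mul])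
      rw [this, mul_one]
  rw [hp0] at k1 k2
  simp only [zero_mul, hdt, ← hn, ← hS, ht] at k1 k2
  rw [nonempty_pmap_iff bs]
  constructor
  · intro hall
    obtain ⟨y0, hy0⟩ := hall 0
    obtain ⟨α, β, γ, rfl⟩ := exists_vec bs y0
    have q0 := LinearMap.congr_fun hy0 (bs 0)
    have q1 := LinearMap.congr_fun hy0 (bs 1)
    have q2 := LinearMap.congr_fun hy0 (bs 2)
    rw [← hA0] at q0 q1 q2
    rw [k0, LieAlgebra.ad_apply, b0, vec_lie bs hxy' hxz' hyz',
      ← vec_zero bs] at q0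
    rw [k1, LieAlgebra.ad_apply, b1, vec_lie bs hxy' hxz' hyz'] at q1
    rw [k2, LieAlgebra.ad_apply, b2, vec_lie bs hxy' hxz' hyz'] at q2
    obtain ⟨p00, p01, p02⟩ := vec_ext bs q0
    obtain ⟨p10, p11, p12⟩ := vec_ext bs q1
    obtain ⟨p20, p21, p22⟩ := vec_ext bs q2
    simp [TrivSqZeroExt.ext_iff] at p00 p01 p02 p10 p11 p12 p20 p21 p22
    obtain ⟨β0, β1⟩ : β.fst = 0 ∧ (β.snd + γ.fst * e) = 0 := by
      constructor
      · linear_combination p01.1
      · linear_combination p01.2 - b * p01.1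
    refine ⟨?_, fun h1 => ?_, fun hp2 => ?_⟩
    · by_cases ht0 : t = 0
      · subst ht0
        have : d = 0 := by rw [hd]; ring
        grind
      · grind
    · have hs := hS1 h1
      grind
    · obtain ⟨y1, hy1⟩ := hall 1
      obtain ⟨α', β', γ', rfl⟩ := exists_vec bs y1
      have r0 := LinearMap.congr_fun hy1 (bs 0)
      have r1 := LinearMap.congr_fun hy1 (bs 1)
      have r2 := LinearMap.congr_fun hy1 (bs 2)
      rw [hp2] at r0 r1 r2
      simp only [pow_two, Module.End.mul_apply, LieAlgebra.ad_apply] at r0 r1 r2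
      simp only [b0, b1, b2, vec_lie bs hxy' hxz' hyz'] at r0 r1 r2
      obtain ⟨-, r01, -⟩ := vec_ext bs r0
      simp [TrivSqZeroExt.ext_iff] at r01
      obtain ⟨-, r11, -⟩ := vec_ext bs r1
      obtain ⟨-, r21, -⟩ := vec_ext bs r2
      simp [TrivSqZeroExt.ext_iff] at r11 r21
      grind
  · rintro ⟨hf, hce, hg2⟩ l
    have cube : ∀ q, A1 (A1 (A1 q)) = 0 ∧ A2 (A2 (A2 q)) = 0 := by
      intro q
      obtain ⟨α, β, γ, rfl⟩ := exists_vec bs q
      simp only [A1, A2, LieAlgebra.ad_apply, b1, b2, vec_lie bs hxy' hxz' hyz']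
      constructor <;> simp only [vec] <;>
        · rw [← vec_zero bs]
          show vec bs _ _ _ = _
          congr 1 <;> apply TrivSqZeroExt.ext <;> simp <;> ring
    fin_cases l
    · refine ⟨vec bs (m 1 (-b)) 0 0, bs.ext fun j => ?_⟩
      fin_cases j
      · show (A0 ^ p) (bs 0) = ⁅_, bs 0⁆
        rw [k0, b0, vec_lie bs hxy' hxz' hyz', ← vec_zero bs]
        congr 1 <;> simp
      · show (A0 ^ p) (bs 1) = ⁅_, bs 1⁆
        rw [k1, b1, vec_lie bs hxy' hxz' hyz']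
        congr 1 <;> apply TrivSqZeroExt.ext <;> simp
        by_cases h1 : t = 1
        · simp [hS1 h1, (hce h1).1]
        · simp [hS2 h1]
      · show (A0 ^ p) (bs 2) = ⁅_, bs 2⁆
        rw [k2, b2, vec_lie bs hxy' hxz' hyz']
        congr 1 <;> apply TrivSqZeroExt.ext <;> simp
        · by_cases h1 : t = 1
          · simp [hS1 h1, (hce h1).2]
          · simp [hS2 h1]
        · linear_combination hf
    · show ∃ y, A1 ^ p = LieAlgebra.ad D L y
      by_cases hp2 : p = 2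
      · refine ⟨vec bs 0 (m 0 (-a)) 0, bs.ext fun j => ?_⟩
        rw [hp2, pow_two, Module.End.mul_apply]
        have := hg2 hp2
        fin_cases j <;>
          simp only [A1, Fin.zero_eta, Fin.mk_one, Fin.reduceFinMk, LieAlgebra.ad_apply, b0, b1, b2,
            vec_lie bs hxy' hxz' hyz'] <;>
          congr 1 <;> apply TrivSqZeroExt.ext <;> simp [this]
      · refine ⟨0, ?_⟩
        rw [map_zero]
        exact pow_eq_zero_of_le (show 3 ≤ p by have := hp.two_le; omega)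
          (LinearMap.ext fun q => by simpa [pow_succ, Module.End.mul_apply] using (cube q).1)
    · show ∃ y, A2 ^ p = LieAlgebra.ad D L y
      by_cases hp2 : p = 2
      · refine ⟨vec bs 0 0 (m 0 (-d)), bs.ext fun j => ?_⟩
        rw [hp2, pow_two, Module.End.mul_apply]
        have := hg2 hp2
        fin_cases j <;>
          simp only [A2, Fin.zero_eta, Fin.mk_one, Fin.reduceFinMk, LieAlgebra.ad_apply, b0, b1, b2,
            vec_lie bs hxy' hxz' hyz'] <;>
          congr 1 <;> apply TrivSqZeroExt.ext <;> simp [this] <;> ring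
      · refine ⟨0, ?_⟩
        rw [map_zero]
        exact pow_eq_zero_of_le (show 3 ≤ p by have := hp.two_le; omega)
          (LinearMap.ext fun q => by simpa [pow_succ, Module.End.mul_apply] using (cube q).2)

end Dual

end Groth.Agent.RLie
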